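import Cfsg.Agent.Lib.AlmostAll.ModuleExt
import Cfsg.Agent.Lib.SL2Trace.Orders
import Cfsg.Agent.Lib.TwoDim.Basic
import Mathlib.Data.ZMod.Basic

/-!
Cuspidal functions on a special linear group over a prime field: a module in characteristic two on which
the elements of order `p` of the projective group act without fixed points while both tori have fixed points.
-/

set_option autoImplicit false

namespace CfsgLib.CuspModule

open Matrix

variable (p : ℕ)

/-- the special linear group -/
abbrev G : Type := Matrix.SpecialLinearGroup (Fin 2) (ZMod p)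

/-- the projective group -/
abbrev Q : Type := ProjectiveSpecialLinearGroup (Fin 2) (ZMod p)

/-- cuspidal functions -/
def cusp : AddSubgroup (G p → ZMod 2) where
  carrier := {f | (∀ z ∈ Subgroup.center (G p), ∀ x, f (z * x) = f x) ∧
    ∀ x y h, h ≠ 1 → h ^ p = 1 → ∑ j ∈ Finset.range p, f (x * h ^ j * y) = 0}
  zero_mem' := ⟨fun _ _ _ => rfl, fun _ _ _ _ _ => by simp⟩
  add_mem' := fun {a b} ha hb => ⟨fun z hz x => by simp [ha.1 z hz x, hb.1 z hz x],
    fun x y h h1 h2 => by simp [Finset.sum_add_distrib, ha.2 x y h h1 h2, hb.2 x y h h1 h2]⟩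
  neg_mem' := fun {a} ha => ⟨fun z hz x => by simp [ha.1 z hz x],
    fun x y h h1 h2 => by simp [Finset.sum_neg_distrib, ha.2 x y h h1 h2]⟩

/-- the type of cuspidal functions -/
abbrev W : Type := cusp p

variable {p}

theorem coset_eq (f : W p) {g h : G p} (e : (QuotientGroup.mk g : Q p) = QuotientGroup.mk h) (x : G p) :
    (f : G p → ZMod 2) (g⁻¹ * x) = (f : G p → ZMod 2) (h⁻¹ * x) := by
  have hz : g⁻¹ * h ∈ Subgroup.center (G p) := QuotientGroup.eq.1 e
  conv_lhs => rw [show g⁻¹ * x = (g⁻¹ * h) * (h⁻¹ * x) by rw [mul_assoc, mul_inv_cancel_left]]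
  exact f.2.1 _ hz _

/-- translation of a cuspidal function -/
noncomputable def translate (g : Q p) (f : W p) : W p :=
  ⟨fun x => (f : G p → ZMod 2) ((Quotient.out g)⁻¹ * x), fun z hz x => by
    show (f : G p → ZMod 2) ((Quotient.out g)⁻¹ * (z * x)) = _
    rw [← mul_assoc, Subgroup.mem_center_iff.1 hz, mul_assoc]
    exact f.2.1 z hz _, fun x y h h1 h2 => by
    show ∑ j ∈ Finset.range p, (f : G p → ZMod 2) ((Quotient.out g)⁻¹ * (x * h ^ j * y)) = 0
    simp only [← mul_assoc]
    exact f.2.2 _ _ _ h1 h2⟩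

theorem translate_apply (g : G p) (f : W p) (x : G p) :
    (translate (QuotientGroup.mk g) f : G p → ZMod 2) x = (f : G p → ZMod 2) (g⁻¹ * x) :=
  coset_eq f (Quotient.out_eq _) x

noncomputable instance : DistribMulAction (Q p) (W p) where
  smul := translate
  one_smul f := Subtype.ext (funext fun x => by
    show (translate (QuotientGroup.mk 1) f : G p → ZMod 2) x = _
    rw [translate_apply, inv_one, one_mul])
  mul_smul a b f := Subtype.ext (funext fun x => by
    obtain ⟨a, rfl⟩ := QuotientGroup.mk_surjective a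
    obtain ⟨b, rfl⟩ := QuotientGroup.mk_surjective b
    show (translate (QuotientGroup.mk (a * b)) f : G p → ZMod 2) x =
      (translate (QuotientGroup.mk a) (translate (QuotientGroup.mk b) f) : G p → ZMod 2) x
    rw [translate_apply, translate_apply, translate_apply, _root_.mul_inv_rev, mul_assoc])
  smul_zero _ := rfl
  smul_add _ _ _ := rfl

theorem smul_apply (g : G p) (f : W p) (x : G p) :
    (((QuotientGroup.mk g : Q p) • f : W p) : G p → ZMod 2) x = (f : G p → ZMod 2) (g⁻¹ * x) :=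
  translate_apply g f x

theorem two_nsmul_eq_zero (f : W p) : 2 • f = 0 :=
  Subtype.ext (funext fun x => by
    show 2 • (f : G p → ZMod 2) x = 0
    rw [two_nsmul]
    exact CharTwo.add_self_eq_zero _)

variable [hp : Fact p.Prime]

theorem nm_eq (g : G p) (f : W p) (n : ℕ) (x : G p) :
    ((∑ j ∈ Finset.range n, (QuotientGroup.mk g : Q p) ^ j • f : W p) : G p → ZMod 2) x =
      ∑ j ∈ Finset.range n, (f : G p → ZMod 2) ((g ^ j)⁻¹ * x) := by
  rw [AddSubgroup.val_finsetSum, Finset.sum_apply]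
  refine Finset.sum_congr rfl fun j _ => ?_
  rw [← QuotientGroup.mk_pow, smul_apply]

/-- Elements of order `p` have trivial norm. -/
theorem nm_char (hodd : Odd p) {g : Q p} (hg : orderOf g = p) (f : W p) : ModuleExt.nm g f = 0 := by
  obtain ⟨M, rfl⟩ := QuotientGroup.mk_surjective g
  rw [ModuleExt.nm, hg]
  refine Subtype.ext (funext fun x => ?_)
  have hz : M ^ p ∈ Subgroup.center (G p) := by
    have := pow_orderOf_eq_one (QuotientGroup.mk M : Q p)
    rw [hg, ← QuotientGroup.mk_pow, QuotientGroup.eq_one_iff] at this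
    exact this
  have h2 := CfsgLib.SL2Trace.mul_self_eq_one_of_mem_center hz
  set h := M * M ^ p with hh
  have hcom : Commute M (M ^ p) := (Commute.refl M).pow_right p
  have hhp : h ^ p = 1 := by
    have hpow : (M ^ p) ^ p = M ^ p := by
      have key : ∀ n : ℕ, Odd n → (M ^ p) ^ n = M ^ p := by
        rintro n ⟨m, rfl⟩
        rw [pow_succ, pow_mul, sq, h2, one_pow, one_mul]
      exact key p hodd
    rw [hh, hcom.mul_pow, hpow, h2]
  have hmk : (QuotientGroup.mk h : Q p) = QuotientGroup.mk M := by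
    rw [hh, QuotientGroup.mk_mul, (QuotientGroup.eq_one_iff _).2 hz, mul_one]
  have hne : h ≠ 1 := fun e => by
    rw [e, QuotientGroup.mk_one] at hmk
    rw [← hmk, orderOf_one] at hg
    exact hp.out.ne_one hg.symm
  rw [← hmk, nm_eq]
  have := f.2.2 1 x h⁻¹ (inv_ne_one.2 hne) (by rw [inv_pow, hhp, inv_one])
  simpa only [inv_pow, one_mul, AddSubgroup.coe_zero, Pi.zero_apply] using this

/-- An elliptic trace. -/
def Elliptic (τ : ZMod p) : Prop := τ ≠ 0 ∧ ¬ ∃ u : ZMod p, u ^ 2 - τ * u + 1 = 0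

theorem exists_elliptic (h5 : 5 ≤ p) : ∃ τ : ZMod p, Elliptic τ := by
  classical
  by_contra hc
  simp only [Elliptic, not_exists, not_and, not_forall] at hc
  let S : Finset (ZMod p) := Finset.univ.filter fun u => u ≠ 0
  have hS : S.card = p - 1 := by
    rw [show S = Finset.univ.erase 0 by ext u; simp [S], Finset.card_erase_of_mem (Finset.mem_univ _),
      Finset.card_univ, ZMod.card]
  have hsub : (Finset.univ.erase (0 : ZMod p)) ⊆ S.image (fun u => u + u⁻¹) := by
    intro τ hτ
    obtain ⟨u, hu⟩ := hc τ (Finset.ne_of_mem_erase hτ)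
    have hu' := not_not.1 hu
    have hu0 : u ≠ 0 := by rintro rfl; simp at hu'
    refine Finset.mem_image.2 ⟨u, by simp [S, hu0], ?_⟩
    field_simp
    linear_combination hu'
  have hcard := Finset.card_le_card hsub
  rw [Finset.card_erase_of_mem (Finset.mem_univ _), Finset.card_univ, ZMod.card, ← hS] at hcard
  have hinj := Finset.card_image_iff.1 (le_antisymm Finset.card_image_le hcard)
  have h2 : (2 : ZMod p) ∈ S := by
    simp only [S, Finset.mem_filter, Finset.mem_univ, true_and]
    intro h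
    have h' : ((2 : ℕ) : ZMod p) = 0 := by exact_mod_cast h
    rw [ZMod.natCast_eq_zero_iff] at h'
    have := Nat.le_of_dvd (by norm_num) h'
    omega
  have h20 : (2 : ZMod p) ≠ 0 := by simpa [S] using h2
  have he := hinj (Finset.mem_coe.2 h2) (Finset.mem_coe.2 (show (2 : ZMod p)⁻¹ ∈ S by simpa [S] using h20))
    (by simp [add_comm])
  have h3 : ((3 : ℕ) : ZMod p) = 0 := by
    have := congrArg (fun z => 2 * z) he
    simp only [mul_inv_cancel₀ h20] at this
    push_cast
    linear_combination this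
  rw [ZMod.natCast_eq_zero_iff] at h3
  have := Nat.le_of_dvd (by norm_num) h3
  omega

variable (τ : ZMod p)

/-- indicator of trace plus or minus `τ` -/
def phiFun (x : G p) : ZMod 2 :=
  if (x : Matrix (Fin 2) (Fin 2) (ZMod p)).trace ^ 2 = τ ^ 2 then 1 else 0

theorem trace_ne_of_fixed {n : Matrix (Fin 2) (Fin 2) (ZMod p)} (hn : n ≠ 0)
    (htr : n.trace = 0) (hdet : n.det = 0) (g : G p)
    (hg : ((g : Matrix (Fin 2) (Fin 2) (ZMod p)) * n).trace = 0) :
    ∃ u : ZMod p, u ^ 2 - (g : Matrix (Fin 2) (Fin 2) (ZMod p)).trace * u + 1 = 0 := by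
  have hd := g.2
  simp only [Matrix.det_fin_two, Matrix.trace_fin_two, Matrix.mul_apply, Fin.sum_univ_two] at hd htr hdet hg ⊢
  by_cases hc : n 1 0 = 0
  · have ha : n 0 0 = 0 := by
      have : n 0 0 * n 0 0 = 0 := by linear_combination -hdet + n 0 0 * htr - n 0 1 * hc
      exact mul_self_eq_zero.1 this
    have hb : n 0 1 ≠ 0 := fun hb => hn (by
      have hd1 : n 1 1 = 0 := by linear_combination htr - ha
      ext i j; fin_cases i <;> fin_cases j <;> simp [ha, hb, hc, hd1])
    have h10 : (g : Matrix (Fin 2) (Fin 2) (ZMod p)) 1 0 = 0 := by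
      have hd1 : n 1 1 = 0 := by linear_combination htr - ha
      rw [ha, hc, hd1] at hg
      have : (g : Matrix (Fin 2) (Fin 2) (ZMod p)) 1 0 * n 0 1 = 0 := by linear_combination hg
      exact (mul_eq_zero.1 this).resolve_right hb
    refine ⟨(g : Matrix (Fin 2) (Fin 2) (ZMod p)) 0 0, ?_⟩
    linear_combination -hd - (g : Matrix (Fin 2) (Fin 2) (ZMod p)) 0 1 * h10
  · obtain ⟨m, hm⟩ : ∃ m, n 0 0 = n 1 0 * m := ⟨n 0 0 / n 1 0, by rw [mul_div_cancel₀ _ hc]⟩
    have h11 : n 1 1 = -(n 1 0 * m) := by linear_combination htr - hm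
    have h01 : n 0 1 = -(n 1 0 * m * m) := by
      refine mul_left_cancel₀ hc ?_
      rw [hm, h11] at hdet
      linear_combination -hdet
    rw [hm, h11, h01] at hg
    set a := (g : Matrix (Fin 2) (Fin 2) (ZMod p))
    have key : a 1 0 * m * m - a 0 1 + (a 1 1 - a 0 0) * m = 0 := by
      refine (mul_eq_zero.1 (?_ : n 1 0 * _ = 0)).resolve_left hc
      linear_combination -hg
    refine ⟨a 1 0 * m + a 1 1, ?_⟩
    linear_combination a 1 0 * key - hd

theorem phi_mem (hτ : Elliptic τ) (hodd : Odd p) : phiFun τ ∈ cusp p := by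
  classical
  have h2 : (2 : ZMod p) ≠ 0 := by
    intro h
    have h' : ((2 : ℕ) : ZMod p) = 0 := by exact_mod_cast h
    rw [ZMod.natCast_eq_zero_iff] at h'
    have := (Nat.prime_dvd_prime_iff_eq hp.out Nat.prime_two).1 h'
    subst this
    exact absurd hodd (by decide)
  constructor
  · intro z hz x
    obtain ⟨r, hr, hrz⟩ := Matrix.SpecialLinearGroup.mem_center_iff.1 hz
    rw [Fintype.card_fin] at hr
    simp only [phiFun, Matrix.SpecialLinearGroup.coe_mul, ← hrz, Matrix.scalar_apply, ← Matrix.smul_one_eq_diagonal,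
      smul_mul_assoc, one_mul, Matrix.trace_smul, smul_eq_mul, mul_pow, hr]
  · intro x y h hne hp1
    set g : G p := y * x
    set n : Matrix (Fin 2) (Fin 2) (ZMod p) := (h : Matrix (Fin 2) (Fin 2) (ZMod p)) - 1 with hn
    have hnp : n ^ p = 0 := by
      rw [hn, sub_pow_char_of_commute _ (Commute.one_right _), one_pow, ← Matrix.SpecialLinearGroup.coe_pow, hp1,
        Matrix.SpecialLinearGroup.coe_one, sub_self]
    have hdet : n.det = 0 := by
      have := congrArg Matrix.det hnp
      rw [Matrix.det_pow, Matrix.det_zero] at this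
      exact eq_zero_of_pow_eq_zero this
    have hn0 : n ≠ 0 := fun e => hne (Subtype.ext (sub_eq_zero.1 e))
    have htr : n.trace = 0 := by
      have hs : ∀ k : ℕ, n ^ (k + 1) = n.trace ^ k • n := by
        intro k
        induction k with
        | zero => simp
        | succ k ih =>
          rw [pow_succ, ih, smul_mul_assoc, CfsgLib.TwoDim.sq_eq, hdet, zero_smul, sub_zero, smul_smul, pow_succ]
      obtain ⟨k, hk⟩ := Nat.exists_eq_succ_of_ne_zero hp.out.ne_zero
      have hnp' : n ^ (k + 1) = 0 := hk ▸ hnp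
      rw [hs, smul_eq_zero] at hnp'
      exact eq_zero_of_pow_eq_zero (hnp'.resolve_right hn0)
    have hsq : n * n = 0 := by rw [CfsgLib.TwoDim.sq_eq, htr, hdet, zero_smul, zero_smul, sub_zero]
    have hpow : ∀ j : ℕ, (h : Matrix (Fin 2) (Fin 2) (ZMod p)) ^ j = 1 + (j : ZMod p) • n := by
      intro j
      induction j with
      | zero => simp
      | succ j ih =>
        rw [pow_succ, ih, show (h : Matrix (Fin 2) (Fin 2) (ZMod p)) = 1 + n by rw [hn]; abel, add_mul, one_mul,
          smul_mul_assoc, mul_add, mul_one, hsq, add_zero, Nat.cast_succ, add_smul, one_smul]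
        abel
    set t0 := (g : Matrix (Fin 2) (Fin 2) (ZMod p)).trace
    set c := ((g : Matrix (Fin 2) (Fin 2) (ZMod p)) * n).trace with hc
    have hterm : ∀ j : ℕ, phiFun τ (x * h ^ j * y) = if (t0 + j * c) ^ 2 = τ ^ 2 then 1 else 0 := by
      intro j
      have : ((x * h ^ j * y : G p) : Matrix (Fin 2) (Fin 2) (ZMod p)).trace = t0 + j * c := by
        rw [Matrix.SpecialLinearGroup.coe_mul, Matrix.trace_mul_comm, ← Matrix.SpecialLinearGroup.coe_mul, ← mul_assoc,
          Matrix.SpecialLinearGroup.coe_mul, Matrix.SpecialLinearGroup.coe_pow, hpow, mul_add, mul_one, mul_smul_comm,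
          Matrix.trace_add, Matrix.trace_smul, smul_eq_mul]
      rw [phiFun, this]
    simp only [hterm]
    rw [Finset.sum_boole]
    by_cases hc0 : c = 0
    · have hneq : t0 ^ 2 ≠ τ ^ 2 := by
        intro e
        obtain ⟨u, hu⟩ := trace_ne_of_fixed hn0 htr hdet g hc0
        rcases sq_eq_sq_iff_eq_or_eq_neg.1 e with h' | h'
        · exact hτ.2 ⟨u, by linear_combination hu + u * h'⟩
        · exact hτ.2 ⟨-u, by linear_combination hu + u * h'⟩
      simp [hc0, hneq]
    · have key : ((Finset.range p).filter fun j : ℕ => (t0 + j * c) ^ 2 = τ ^ 2).card =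
          ({τ, -τ} : Finset (ZMod p)).card := by
        refine Finset.card_bij (fun j _ => t0 + j * c) (fun j hj => ?_) (fun i hi j hj e => ?_) (fun s hs => ?_)
        · simpa using sq_eq_sq_iff_eq_or_eq_neg.1 (Finset.mem_filter.1 hj).2
        · have e' := mul_right_cancel₀ hc0 (add_left_cancel e)
          have := congrArg ZMod.val e'
          rwa [ZMod.val_natCast_of_lt (Finset.mem_range.1 (Finset.mem_filter.1 hi).1),
            ZMod.val_natCast_of_lt (Finset.mem_range.1 (Finset.mem_filter.1 hj).1)] at this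
        · have hv : t0 + (((s - t0) / c).val : ZMod p) * c = s := by
            rw [ZMod.natCast_zmod_val, div_mul_cancel₀ _ hc0, add_sub_cancel]
          refine ⟨((s - t0) / c).val, Finset.mem_filter.2 ⟨Finset.mem_range.2 (ZMod.val_lt _), ?_⟩, hv⟩
          rw [hv]
          exact sq_eq_sq_iff_eq_or_eq_neg.2 (by simpa using hs)
      rw [key, Finset.card_pair (fun e => hτ.1 ((mul_eq_zero.1
        (show (2 : ZMod p) * τ = 0 by linear_combination e)).resolve_left h2))]
      decide

/-- A torus element has nonzero norm on the module. -/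
theorem exists_nm_ne (hodd : Odd p) (hτ : Elliptic τ) (σ : ZMod p) (hσ : σ ^ 2 ≠ 4) (s : G p)
    (hs : s ∈ Subgroup.centralizer ({CfsgLib.SL2Trace.comp σ} : Set (G p))) :
    ∃ f : W p, ModuleExt.nm (QuotientGroup.mk s : Q p) f ≠ 0 := by
  classical
  have h2 : (2 : ZMod p) ≠ 0 := by
    intro h
    have h' : ((2 : ℕ) : ZMod p) = 0 := by exact_mod_cast h
    rw [ZMod.natCast_eq_zero_iff] at h'
    have := (Nat.prime_dvd_prime_iff_eq hp.out Nat.prime_two).1 h'
    subst this
    exact absurd hodd (by decide)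
  have hτ0 : τ / 2 ≠ 0 := div_ne_zero hτ.1 h2
  obtain ⟨a, b, hab⟩ := CfsgLib.SL2Trace.exists_quad_eq (1 : ZMod p) (-σ) 1 ((τ / 2) ^ 2 - 1)
    (by intro e; apply hσ; linear_combination e)
  let g : G p := CfsgLib.SL2Trace.mk2 (τ / 2 + a) b (b - σ * a) (τ / 2 - a) (by linear_combination -hab)
  refine ⟨⟨_, phi_mem τ hτ hodd⟩, fun h => ?_⟩
  have h' := congrArg (fun w : W p => (w : G p → ZMod 2) g) h
  simp only [ModuleExt.nm, nm_eq, AddSubgroup.coe_zero, Pi.zero_apply] at h'
  rw [Finset.sum_eq_single_of_mem 0 (Finset.mem_range.2 (orderOf_pos _))] at h'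
  · simp [phiFun, g, Matrix.trace_fin_two, CfsgLib.SL2Trace.coe_mk2] at h'
    exact h' (by field_simp; ring)
  · intro j hj hj0
    have hmem : (s ^ j)⁻¹ ∈ Subgroup.centralizer ({CfsgLib.SL2Trace.comp σ} : Set (G p)) :=
      inv_mem (pow_mem hs j)
    have hnc : (s ^ j)⁻¹ ∉ Subgroup.center (G p) := by
      intro hc
      refine pow_ne_one_of_lt_orderOf hj0 (Finset.mem_range.1 hj) ?_
      rw [← QuotientGroup.mk_pow, QuotientGroup.eq_one_iff]
      exact inv_mem_iff.1 hc
    generalize (s ^ j)⁻¹ = u at hmem hnc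
    have hcomm := congrArg (fun z : G p => (z : Matrix (Fin 2) (Fin 2) (ZMod p)))
      (Subgroup.mem_centralizer_singleton_iff.1 hmem)
    simp only [Matrix.SpecialLinearGroup.coe_mul, CfsgLib.SL2Trace.coe_comp] at hcomm
    have c00 := congrFun (congrFun hcomm 0) 0
    have c10 := congrFun (congrFun hcomm 1) 0
    simp [Matrix.mul_apply, Fin.sum_univ_two] at c00 c10
    have hud := u.2
    rw [Matrix.det_fin_two] at hud
    show phiFun τ (u * g) = 0
    rw [phiFun, if_neg]
    intro e
    simp [g, CfsgLib.SL2Trace.coe_mk2, Matrix.trace_fin_two, Matrix.mul_apply, Fin.sum_univ_two] at e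
    set x := (u : Matrix (Fin 2) (Fin 2) (ZMod p)) 0 0
    set y := (u : Matrix (Fin 2) (Fin 2) (ZMod p)) 1 0
    set z := (u : Matrix (Fin 2) (Fin 2) (ZMod p)) 0 1
    set w := (u : Matrix (Fin 2) (Fin 2) (ZMod p)) 1 1
    have hz : z = -y := by linear_combination c00
    have hw : w = x + σ * y := by linear_combination c10
    have e' : (τ / 2) ^ 2 * ((2 * x + σ * y) ^ 2 - 4) = 0 := by
      rw [hz, hw] at e
      have ht : τ = 2 * (τ / 2) := by field_simp
      linear_combination e + (τ + 2 * (τ / 2)) * ht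
    have hxy := (mul_eq_zero.1 e').resolve_left (pow_ne_zero 2 hτ0)
    rw [hz, hw] at hud
    have hy : y * y * (σ ^ 2 - 4) = 0 := by linear_combination hxy - 4 * hud
    have hy0 := mul_self_eq_zero.1 ((mul_eq_zero.1 hy).resolve_right (sub_ne_zero.2 hσ))
    refine hnc (CfsgLib.SL2Trace.mem_center_of_scalar x ?_)
    ext i k
    fin_cases i <;> fin_cases k <;> simp [Matrix.scalar_apply] <;>
      first
        | rfl
        | exact hy0
        | exact hz.trans (by rw [hy0, neg_zero])
        | exact hw.trans (by rw [hy0, mul_zero, add_zero])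

/-- The element orders of the extension. -/
theorem range_ext (h5 : 5 ≤ p) {k : ℕ} (hk : 0 < k) :
    Set.range (orderOf : ModuleExt.Ext (Q p) (W p) k → ℕ) = {n | n = p ∨ n ∣ p - 1 ∨ n ∣ p + 1} := by
  classical
  haveI : NeZero p := ⟨hp.out.ne_zero⟩
  have hodd : Odd p := hp.out.odd_of_ne_two (by omega)
  have hq : Fintype.card (ZMod p) = p := ZMod.card p
  have hgcd : Nat.gcd 2 (p - 1) = 2 := Nat.gcd_eq_left (by rcases hodd with ⟨m, hm⟩; omega)
  obtain ⟨τ, hτ⟩ := exists_elliptic (p := p) h5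
  rw [ModuleExt.range_orderOf Nat.prime_two two_nsmul_eq_zero hk]
  have hcases : ∀ g : Q p, orderOf g = p ∨ 2 * orderOf g ∣ p - 1 ∨ 2 * orderOf g ∣ p + 1 := by
    intro g
    rcases CfsgLib.SL2Trace.psl_pow_cases p g with h | h | h
    · rcases (Nat.dvd_prime hp.out).1 (orderOf_dvd_of_pow_eq_one h) with h1 | h1
      · exact Or.inr (Or.inl (by rw [h1]; rcases hodd with ⟨m, hm⟩; omega))
      · exact Or.inl h1
    · rw [hq, hgcd] at h
      refine Or.inr (Or.inl ?_)
      have h2 : 2 ∣ p - 1 := by rcases hodd with ⟨m, hm⟩; omega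
      rw [← Nat.mul_div_cancel' h2]
      exact Nat.mul_dvd_mul_left 2 (orderOf_dvd_of_pow_eq_one h)
    · rw [hq, hgcd] at h
      refine Or.inr (Or.inr ?_)
      have h2 : 2 ∣ p + 1 := by rcases hodd with ⟨m, hm⟩; omega
      rw [← Nat.mul_div_cancel' h2]
      exact Nat.mul_dvd_mul_left 2 (orderOf_dvd_of_pow_eq_one h)
  ext n
  constructor
  · rintro (⟨g, rfl⟩ | ⟨g, ⟨f, hf⟩, rfl⟩)
    · rcases hcases g with h | h | h
      · exact Or.inl h
      · exact Or.inr (Or.inl ((dvd_mul_left _ 2).trans h))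
      · exact Or.inr (Or.inr ((dvd_mul_left _ 2).trans h))
    · rcases hcases g with h | h | h
      · exact absurd (nm_char hodd h f) hf
      · exact Or.inr (Or.inl h)
      · exact Or.inr (Or.inr h)
  · intro hn
    have hdiv : ∀ m : ℕ, (∃ g : Q p, orderOf g = m) ∨ (∃ g : Q p, (∃ f : W p, ModuleExt.nm g f ≠ 0) ∧
        2 * orderOf g = m) → ∀ d, d ∣ m → d ∈ Set.range (orderOf : ModuleExt.Ext (Q p) (W p) k → ℕ) := by
      intro m hm d hd
      obtain ⟨x, hx⟩ := (Set.ext_iff.1 (ModuleExt.range_orderOf (X := Q p) Nat.prime_two two_nsmul_eq_zero hk) m).2 hm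
      exact ⟨x ^ (orderOf x / d), orderOf_pow_orderOf_div (orderOf_pos x).ne' (hx ▸ hd)⟩
    rw [← ModuleExt.range_orderOf Nat.prime_two two_nsmul_eq_zero hk]
    have torus : ∀ (σ : ZMod p), σ ^ 2 ≠ 4 → ∀ m : ℕ,
        Nat.card (Subgroup.centralizer ({CfsgLib.SL2Trace.comp σ} : Set (G p))) = m → m % 2 = 0 →
        (∃ g : Q p, (∃ f : W p, ModuleExt.nm g f ≠ 0) ∧ 2 * orderOf g = m) := by
      intro σ hσ m hm h2
      have := CfsgLib.SL2Trace.isCyclic_centralizer_comp σ hσ
      obtain ⟨c, hc⟩ := IsCyclic.exists_ofOrder_eq_natCard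
        (α := Subgroup.centralizer ({CfsgLib.SL2Trace.comp σ} : Set (G p)))
      rw [hm, ← Subgroup.orderOf_coe] at hc
      refine ⟨QuotientGroup.mk c.1, exists_nm_ne τ hodd hτ σ hσ c.1 c.2, ?_⟩
      show 2 * orderOf (CfsgLib.SL2Trace.toPSL c.1) = m
      rw [CfsgLib.SL2Trace.orderOf_toPSL _ (by rw [hc, hq, h2]; rcases hodd with ⟨r, hr⟩; omega), hc, hq, hgcd,
        Nat.mul_div_cancel' (Nat.dvd_of_mod_eq_zero h2)]
    rcases hn with rfl | hn | hn
    · exact hdiv n (Or.inl (CfsgLib.SL2Trace.exists_orderOf_char n)) n dvd_rfl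
    · obtain ⟨σ, hσ, hu⟩ := CfsgLib.SL2Trace.exists_isotropic_trace (F := ZMod p) (by omega)
      have hm := (CfsgLib.SL2Trace.card_centralizer_comp σ hσ).1 hu
      rw [hq] at hm
      exact hdiv _ (Or.inr (torus σ hσ _ hm (by rcases hodd with ⟨r, hr⟩; omega))) n hn
    · obtain ⟨σ, hu⟩ := CfsgLib.SL2Trace.exists_anisotropic_trace (F := ZMod p)
      have hσ : σ ^ 2 ≠ 4 := fun e => hu (CfsgLib.SL2Trace.exists_root_of_sq_eq_four σ e)
      have hm := (CfsgLib.SL2Trace.card_centralizer_comp σ hσ).2 hu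
      rw [hq] at hm
      exact hdiv _ (Or.inr (torus σ hσ _ hm (by rcases hodd with ⟨r, hr⟩; omega))) n hn

theorem exists_ne_zero (h5 : 5 ≤ p) : ∃ f : W p, f ≠ 0 := by
  have hodd : Odd p := hp.out.odd_of_ne_two (by omega)
  obtain ⟨τ, hτ⟩ := exists_elliptic (p := p) h5
  refine ⟨⟨_, phi_mem τ hτ hodd⟩, fun h => ?_⟩
  have := congrArg (fun w : W p => (w : G p → ZMod 2) (CfsgLib.SL2Trace.comp τ)) h
  simp [phiFun, CfsgLib.SL2Trace.coe_comp, Matrix.trace_fin_two] at this

end CfsgLib.CuspModule
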