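import Cfsg.Agent.Lib.AlmostAll.TwoS5
import Mathlib.GroupTheory.SemidirectProduct
import Mathlib.GroupTheory.OrderOfElement

/-!
Element orders in the extension of elementary abelian 7-groups and 3-groups by the double cover of S5.
-/

set_option autoImplicit false

namespace CfsgLib.TwoS5

open Matrix

theorem pow_gA : toM gA ^ 3 = 1 := by
  rw [← toM_pw, show pw gA 3 = one by decide +kernel, toM_one]

theorem pow_gB : toM gB ^ 12 = 1 := by
  rw [← toM_pw, show pw gB 12 = one by decide +kernel, toM_one]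

/-- first generator as a unit -/
noncomputable def uA : GL (Fin 4) (ZMod 7) := Units.ofPowEqOne _ 3 pow_gA (by norm_num)

/-- second generator as a unit -/
noncomputable def uB : GL (Fin 4) (ZMod 7) := Units.ofPowEqOne _ 12 pow_gB (by norm_num)

theorem val_uA : (uA : Matrix (Fin 4) (Fin 4) (ZMod 7)) = toM gA := rfl

theorem val_uB : (uB : Matrix (Fin 4) (Fin 4) (ZMod 7)) = toM gB := rfl

/-- the double cover -/
noncomputable def grp : Subgroup (GL (Fin 4) (ZMod 7)) := Subgroup.closure {uA, uB}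

/-- the type of the double cover -/
abbrev X : Type := grp

/-- the matrix of an element -/
def mat (g : X) : Matrix (Fin 4) (Fin 4) (ZMod 7) := ((g : GL (Fin 4) (ZMod 7)) : Matrix _ _ _)

theorem mat_one : mat 1 = 1 := rfl

theorem mat_mul (g h : X) : mat (g * h) = mat g * mat h := rfl

theorem mat_inj {g h : X} (e : mat g = mat h) : g = h := Subtype.ext (Units.ext e)

theorem mat_pow (g : X) : ∀ n : ℕ, mat (g ^ n) = mat g ^ n
  | 0 => by simp [mat_one]
  | n + 1 => by rw [pow_succ, mat_mul, mat_pow g n, pow_succ]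

theorem covered (g : X) : ∃ i < 240, mat g = toM (el i).1 := by
  let S : Set (GL (Fin 4) (ZMod 7)) :=
    {x | ∃ i < 240, (x : Matrix (Fin 4) (Fin 4) (ZMod 7)) = toM (el i).1}
  have hA : ∀ x ∈ S, uA * x ∈ S := by
    rintro x ⟨i, hi, e⟩
    obtain ⟨n, -, ⟨j, hj, hje⟩, -⟩ := row_spec hi
    exact ⟨j, hj, by rw [Units.val_mul, val_uA, e, hje]⟩
  have hB : ∀ x ∈ S, uB * x ∈ S := by
    rintro x ⟨i, hi, e⟩
    obtain ⟨n, -, -, ⟨j, hj, hje⟩, -⟩ := row_spec hi
    exact ⟨j, hj, by rw [Units.val_mul, val_uB, e, hje]⟩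
  have one_mem : (1 : GL (Fin 4) (ZMod 7)) ∈ S :=
    ⟨0, by norm_num, by rw [Units.val_one, show (el 0).1 = one by decide +kernel, toM_one]⟩
  have key : ∀ y ∈ grp, ∀ x ∈ S, y * x ∈ S := by
    intro y hy
    induction hy using Subgroup.closure_induction with
    | mem y hy =>
      rcases hy with rfl | rfl
      · exact hA
      · exact hB
    | one => intro x hx; rwa [one_mul]
    | mul a b _ _ ha hb => intro x hx; rw [mul_assoc]; exact ha _ (hb _ hx)
    | inv a _ ha =>
      intro x hx
      have hp : ∀ n : ℕ, a ^ n * x ∈ S := by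
        intro n
        induction n with
        | zero => simpa using hx
        | succ n ih => rw [pow_succ', mul_assoc]; exact ha _ ih
      obtain ⟨n, -, hn⟩ := (isOfFinOrder_of_finite a).exists_pow_eq_one
      rcases Nat.eq_zero_or_pos (orderOf a) with h0 | hpos
      · exact absurd h0 (orderOf_pos a).ne'
      have : a⁻¹ = a ^ (orderOf a - 1) := by
        refine inv_eq_of_mul_eq_one_right ?_
        rw [← pow_succ', Nat.sub_add_cancel hpos, pow_orderOf_eq_one]
      rw [this]
      exact hp _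
  obtain ⟨i, hi, e⟩ := key _ g.2 1 one_mem
  rw [mul_one] at e
  exact ⟨i, hi, e⟩

/-- the data of an element -/
theorem elem_spec (g : X) : orderOf g ∈ [1, 2, 3, 4, 5, 6, 8, 10, 12] ∧
    (g = 1 ∨ ∑ j ∈ Finset.range (orderOf g), mat g ^ j = 0) ∧
    (orderOf g % 2 = 1 ∨ mat g ^ (orderOf g / 2) = -1) := by
  obtain ⟨i, hi, e⟩ := covered g
  obtain ⟨n, hn, -, -, h1, h2, h3, h4⟩ := row_spec hi
  rw [← e] at h1 h2 h3 h4
  have hord : orderOf g = n := by
    rw [orderOf_eq_iff (by rcases List.mem_iff_getElem.1 hn with ⟨k, hk, rfl⟩; simp at hk; interval_cases k <;> simp)]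
    refine ⟨mat_inj (by rw [mat_pow, h1, mat_one]), fun m hm hm0 hc => h2 m hm0 hm ?_⟩
    rw [← mat_pow, hc, mat_one]
  rw [hord]
  exact ⟨hn, h3.imp_left (fun h => mat_inj (by rw [h, mat_one])), h4⟩

theorem uA_mem : uA ∈ grp := Subgroup.subset_closure (by simp)

theorem uB_mem : uB ∈ grp := Subgroup.subset_closure (by simp)

/-- first generator in the group -/
noncomputable def xA : X := ⟨uA, uA_mem⟩

/-- second generator in the group -/
noncomputable def xB : X := ⟨uB, uB_mem⟩

theorem mat_xA : mat xA = toM gA := rfl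

theorem mat_xB : mat xB = toM gB := rfl

theorem orderOf_of_code {g : X} {A : M4} {n : ℕ} (e : mat g = toM A) (h1 : pw A n = one) (h0 : 0 < n)
    (h2 : ((List.range (n - 1)).all fun j => decide (pw A (j + 1) ≠ one)) = true) : orderOf g = n := by
  rw [orderOf_eq_iff h0]
  refine ⟨mat_inj (by rw [mat_pow, e, ← toM_pw, h1, toM_one, mat_one]), fun m hm hm0 hc => ?_⟩
  have hc' : toM (pw A m) = toM one := by rw [toM_pw, ← e, ← mat_pow, hc, mat_one, toM_one]
  obtain ⟨k, rfl⟩ : ∃ k, m = k + 1 := ⟨m - 1, by omega⟩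
  have e' : frM (toM (mul (pw A k) A)) = frM (toM one) := congrArg frM hc'
  rw [frM_toM_mul, frM_toM_one] at e'
  have := List.all_eq_true.1 h2 k (List.mem_range.2 (by omega))
  exact (of_decide_eq_true this) e'

/-- an element of order 12 -/
noncomputable def x12 : X := xB

/-- an element of order 8 -/
noncomputable def x8 : X := xB * xA * xA

/-- an element of order 10 -/
noncomputable def x10 : X := xB * xB * xB * xA * xB * xA

theorem orderOf_x12 : orderOf x12 = 12 :=
  orderOf_of_code (A := gB) mat_xB (by decide +kernel)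
    (by norm_num) (by decide +kernel)

theorem orderOf_x8 : orderOf x8 = 8 :=
  orderOf_of_code (A := mul (mul gB gA) gA)
    (by simp only [x8, mat_mul, mat_xA, mat_xB, toM_mul])
    (by decide +kernel) (by norm_num) (by decide +kernel)

theorem orderOf_x10 : orderOf x10 = 10 :=
  orderOf_of_code (A := mul (mul (mul (mul (mul gB gB) gB) gA) gB) gA)
    (by simp only [x10, mat_mul, mat_xA, mat_xB, toM_mul])
    (by decide +kernel) (by norm_num) (by decide +kernel)

/-- the central involution -/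
noncomputable def z : X := x8 ^ 4

theorem mat_z : mat z = -1 := by
  rw [z, mat_pow, show mat x8 = toM (mul (mul gB gA) gA) by simp only [x8, mat_mul, mat_xA, mat_xB, toM_mul],
    ← toM_pw, show pw (mul (mul gB gA) gA) 4 = negOne by decide +kernel, toM_negOne]

theorem z_comm (g : X) : z * g = g * z := mat_inj (by rw [mat_mul, mat_mul, mat_z]; simp)

theorem z_sq : z * z = 1 := mat_inj (by rw [mat_mul, mat_z, mat_one]; simp)

theorem z_inv : z⁻¹ = z := inv_eq_of_mul_eq_one_right z_sq

theorem orderOf_z : orderOf z = 2 := by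
  rw [z, orderOf_pow, orderOf_x8]
  norm_num

theorem eq_z_of_even {g : X} (h : orderOf g % 2 = 0) : g ^ (orderOf g / 2) = z := by
  rcases (elem_spec g).2.2 with h' | h'
  · omega
  · exact mat_inj (by rw [mat_pow, h', mat_z])

/-! ### the module -/

/-- functions on the group that change sign under the central involution -/
def oddFun : AddSubgroup (X → ZMod 3) where
  carrier := {f | ∀ x, f (z * x) = -f x}
  zero_mem' := fun x => by simp
  add_mem' := fun {f g} hf hg x => by
    simp only [Pi.add_apply, hf x, hg x]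
    ring
  neg_mem' := fun {f} hf x => by simp [hf x]

/-- the module -/
abbrev V (k : ℕ) : Type := (Fin k → Fin 4 → ZMod 7) × oddFun

/-- the action of one element -/
noncomputable def actE (k : ℕ) (g : X) : V k ≃+ V k where
  toFun v := (fun i => mat g *ᵥ v.1 i,
    ⟨fun x => (v.2 : X → ZMod 3) (g⁻¹ * x), fun x => by
      show (v.2 : X → ZMod 3) (g⁻¹ * (z * x)) = -(v.2 : X → ZMod 3) (g⁻¹ * x)
      rw [← mul_assoc, ← z_comm, mul_assoc]
      exact v.2.2 _⟩)
  invFun v := (fun i => mat g⁻¹ *ᵥ v.1 i,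
    ⟨fun x => (v.2 : X → ZMod 3) (g * x), fun x => by
      show (v.2 : X → ZMod 3) (g * (z * x)) = -(v.2 : X → ZMod 3) (g * x)
      rw [← mul_assoc, ← z_comm, mul_assoc]
      exact v.2.2 _⟩)
  left_inv v := by
    refine Prod.ext (funext fun i => ?_) (Subtype.ext (funext fun x => ?_))
    · show mat g⁻¹ *ᵥ (mat g *ᵥ v.1 i) = v.1 i
      rw [mulVec_mulVec, ← mat_mul, inv_mul_cancel, mat_one, one_mulVec]
    · show (v.2 : X → ZMod 3) (g⁻¹ * (g * x)) = _
      rw [inv_mul_cancel_left]
  right_inv v := by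
    refine Prod.ext (funext fun i => ?_) (Subtype.ext (funext fun x => ?_))
    · show mat g *ᵥ (mat g⁻¹ *ᵥ v.1 i) = v.1 i
      rw [mulVec_mulVec, ← mat_mul, mul_inv_cancel, mat_one, one_mulVec]
    · show (v.2 : X → ZMod 3) (g * (g⁻¹ * x)) = _
      rw [mul_inv_cancel_left]
  map_add' v w := by
    refine Prod.ext (funext fun i => ?_) (Subtype.ext (funext fun x => ?_))
    · exact mulVec_add (mat g) (v.1 i) (w.1 i)
    · rfl

theorem actE_fst (k : ℕ) (g : X) (v : V k) (i : Fin k) : (actE k g v).1 i = mat g *ᵥ v.1 i := rfl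

theorem actE_snd (k : ℕ) (g : X) (v : V k) (x : X) :
    ((actE k g v).2 : X → ZMod 3) x = (v.2 : X → ZMod 3) (g⁻¹ * x) := rfl

theorem V_ext {k : ℕ} {v w : V k} (h1 : ∀ i, v.1 i = w.1 i)
    (h2 : ∀ x, (v.2 : X → ZMod 3) x = (w.2 : X → ZMod 3) x) : v = w :=
  Prod.ext (funext h1) (Subtype.ext (funext h2))

/-- the action -/
noncomputable def act (k : ℕ) : X →* MulAut (Multiplicative (V k)) where
  toFun g := (actE k g).toMultiplicative
  map_one' := by
    refine MulEquiv.ext fun v => Multiplicative.toAdd.injective (V_ext (fun i => ?_) (fun x => ?_))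
    · show mat 1 *ᵥ _ = _
      rw [mat_one, one_mulVec]
      rfl
    · show (v.toAdd.2 : X → ZMod 3) (1⁻¹ * x) = _
      rw [inv_one, one_mul]
      rfl
  map_mul' g h := by
    refine MulEquiv.ext fun v => Multiplicative.toAdd.injective (V_ext (fun i => ?_) (fun x => ?_))
    · show mat (g * h) *ᵥ v.toAdd.1 i = mat g *ᵥ (mat h *ᵥ v.toAdd.1 i)
      rw [mat_mul, mulVec_mulVec]
    · show (v.toAdd.2 : X → ZMod 3) ((g * h)⁻¹ * x) = (v.toAdd.2 : X → ZMod 3) (h⁻¹ * (g⁻¹ * x))
      rw [_root_.mul_inv_rev, mul_assoc]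

theorem act_apply (k : ℕ) (g : X) (v : Multiplicative (V k)) :
    (act k g v).toAdd = actE k g v.toAdd := rfl

/-- the extension -/
abbrev Ext (k : ℕ) : Type := Multiplicative (V k) ⋊[act k] X

instance (k : ℕ) : Finite (Ext k) := Finite.of_equiv _ SemidirectProduct.equivProd.symm

/-- the norm of an element of the module -/
noncomputable def norm (k : ℕ) (g : X) (n : ℕ) (v : V k) : V k :=
  ∑ j ∈ Finset.range n, actE k (g ^ j) v

theorem pow_right {k : ℕ} (x : Ext k) (n : ℕ) : (x ^ n).right = x.right ^ n :=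
  map_pow (SemidirectProduct.rightHom (φ := act k)) x n

theorem pow_left {k : ℕ} (x : Ext k) : ∀ n : ℕ, (x ^ n).left.toAdd = norm k x.right n x.left.toAdd
  | 0 => by simp [norm]
  | n + 1 => by
    rw [pow_succ, SemidirectProduct.mul_left, toAdd_mul, pow_left x n, act_apply, pow_right, norm, norm,
      Finset.sum_range_succ]

theorem norm_fst (k : ℕ) (g : X) (n : ℕ) (v : V k) (i : Fin k) :
    (norm k g n v).1 i = (∑ j ∈ Finset.range n, mat g ^ j) *ᵥ v.1 i := by
  rw [norm, Prod.fst_sum, Finset.sum_apply, Matrix.sum_mulVec]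
  exact Finset.sum_congr rfl fun j _ => by rw [actE_fst, mat_pow]

theorem norm_snd (k : ℕ) (g : X) (n : ℕ) (v : V k) (x : X) :
    ((norm k g n v).2 : X → ZMod 3) x = ∑ j ∈ Finset.range n, (v.2 : X → ZMod 3) ((g ^ j)⁻¹ * x) := by
  rw [norm, Prod.snd_sum, AddSubgroup.val_finsetSum, Finset.sum_apply]
  exact Finset.sum_congr rfl fun j _ => by rw [actE_snd]

theorem orderOf_eq {k : ℕ} (x : Ext k) :
    orderOf x = orderOf x.right * addOrderOf (norm k x.right (orderOf x.right) x.left.toAdd) := by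
  have hr : (x ^ orderOf x.right).right = 1 := by rw [pow_right, pow_orderOf_eq_one]
  have hx : x ^ orderOf x.right = SemidirectProduct.inl (x ^ orderOf x.right).left :=
    SemidirectProduct.ext rfl (by rw [hr, SemidirectProduct.right_inl])
  have h1 : orderOf (x ^ orderOf x.right) = addOrderOf (norm k x.right (orderOf x.right) x.left.toAdd) := by
    rw [hx, orderOf_injective _ SemidirectProduct.inl_injective, ← pow_left]
    exact (addOrderOf_ofMul_eq_orderOf _).symm
  have hd : orderOf x.right ∣ orderOf x :=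
    orderOf_map_dvd (SemidirectProduct.rightHom (φ := act k)) x
  rw [← h1, orderOf_pow' x (orderOf_pos _).ne', Nat.gcd_eq_right hd, Nat.mul_div_cancel' hd]

theorem norm_even {k : ℕ} {g : X} (h : orderOf g % 2 = 0) (v : V k) : norm k g (orderOf g) v = 0 := by
  refine V_ext (fun i => ?_) (fun x => ?_)
  · rw [norm_fst]
    rcases (elem_spec g).2.1 with rfl | h'
    · rw [orderOf_one] at h; omega
    · rw [h', zero_mulVec]; rfl
  · rw [norm_snd]
    have hm : orderOf g = orderOf g / 2 + orderOf g / 2 := by omega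
    rw [hm, Finset.sum_range_add, ← Finset.sum_add_distrib]
    show _ = (0 : ZMod 3)
    refine Finset.sum_eq_zero fun j _ => ?_
    rw [pow_add, eq_z_of_even h, _root_.mul_inv_rev, z_inv, mul_assoc]
    have : (g ^ j)⁻¹ * (z * x) = z * ((g ^ j)⁻¹ * x) := by rw [← mul_assoc, ← z_comm, mul_assoc]
    rw [this, v.2.2, add_neg_cancel]

theorem norm_fst_zero {k : ℕ} {g : X} (h : g ≠ 1) (v : V k) : (norm k g (orderOf g) v).1 = 0 := by
  funext i
  rw [norm_fst, ((elem_spec g).2.1).resolve_left h, zero_mulVec]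
  rfl

theorem three_nsmul_eq_zero {k : ℕ} {v : V k} (h : v.1 = 0) : 3 • v = 0 := by
  refine V_ext (fun i => ?_) (fun x => ?_)
  · rw [Prod.smul_fst, h, smul_zero]; rfl
  · show 3 • (v.2 : X → ZMod 3) x = 0
    rw [nsmul_eq_mul, show ((3 : ℕ) : ZMod 3) = 0 by decide, zero_mul]

theorem twentyone_nsmul_eq_zero {k : ℕ} (v : V k) : 21 • v = 0 := by
  refine V_ext (fun i => ?_) (fun x => ?_)
  · funext j
    show 21 • v.1 i j = 0
    rw [nsmul_eq_mul, show ((21 : ℕ) : ZMod 7) = 0 by decide, zero_mul]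
  · show 21 • (v.2 : X → ZMod 3) x = 0
    rw [nsmul_eq_mul, show ((21 : ℕ) : ZMod 3) = 0 by decide, zero_mul]

theorem orderOf_mem {k : ℕ} (x : Ext k) :
    orderOf x ∈ [1, 2, 3, 4, 5, 6, 7, 8, 9, 10, 12, 15, 21] := by
  rw [orderOf_eq x]
  generalize hv : x.left.toAdd = v
  generalize x.right = g
  by_cases hg : g = 1
  · subst hg
    rw [orderOf_one, one_mul]
    have h : addOrderOf (norm k 1 1 v) ∈ Nat.divisors 21 :=
      Nat.mem_divisors.2 ⟨addOrderOf_dvd_of_nsmul_eq_zero (twentyone_nsmul_eq_zero _), by norm_num⟩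
    rw [show Nat.divisors 21 = {1, 3, 7, 21} by decide] at h
    simp only [Finset.mem_insert, Finset.mem_singleton] at h
    rcases h with h | h | h | h <;> simp [h]
  · obtain ⟨hn, -, -⟩ := elem_spec g
    rcases Nat.mod_two_eq_zero_or_one (orderOf g) with he | ho
    · rw [norm_even he, addOrderOf_zero, mul_one]
      simp only [List.mem_cons, List.not_mem_nil, or_false] at hn ⊢
      omega
    · have h : addOrderOf (norm k g (orderOf g) v) ∣ 3 :=
        addOrderOf_dvd_of_nsmul_eq_zero (three_nsmul_eq_zero (norm_fst_zero hg v))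
      have h1 : orderOf g ≠ 1 := fun h => hg (orderOf_eq_one_iff.1 h)
      simp only [List.mem_cons, List.not_mem_nil, or_false] at hn ⊢
      rcases (Nat.dvd_prime Nat.prime_three).1 h with h' | h' <;> rw [h'] <;> omega

/-- the delta function made odd -/
noncomputable def delta : oddFun :=
  open Classical in
  ⟨fun x => (if x = 1 then 1 else 0) - (if x = z then 1 else 0), fun x => by
    have e1 : (z * x = 1) ↔ x = z :=
      ⟨fun h => by rw [eq_inv_of_mul_eq_one_right h, z_inv], fun h => by rw [h, z_sq]⟩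
    have e2 : (z * x = z) ↔ x = 1 := ⟨fun h => mul_eq_left.1 h, fun h => by rw [h, mul_one]⟩
    simp only [e1, e2, neg_sub]⟩

theorem z_ne_one : z ≠ 1 := fun h => by
  have := orderOf_z
  rw [h, orderOf_one] at this
  omega

theorem delta_apply_ne {x : X} (h1 : x ≠ 1) (h2 : x ≠ z) : (delta : X → ZMod 3) x = 0 := by
  simp [delta, h1, h2]

theorem delta_one : (delta : X → ZMod 3) 1 = 1 := by
  simp [delta, Ne.symm z_ne_one]

theorem norm_delta_ne {k : ℕ} {g : X} (ho : orderOf g % 2 = 1) :
    norm k g (orderOf g) (0, delta) ≠ 0 := by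
  intro h
  have h' := congrArg (fun w : V k => (w.2 : X → ZMod 3) 1) h
  simp only [Prod.snd_zero, ZeroMemClass.coe_zero, Pi.zero_apply, norm_snd, mul_one] at h'
  rw [Finset.sum_eq_single_of_mem 0 (Finset.mem_range.2 (orderOf_pos g))] at h'
  · rw [pow_zero, inv_one, delta_one] at h'
    exact one_ne_zero h'
  · intro j hj hj0
    have hj' := Finset.mem_range.1 hj
    refine delta_apply_ne (fun hc => pow_ne_one_of_lt_orderOf hj0 hj' (inv_eq_one.1 hc)) (fun hc => ?_)
    rw [inv_eq_iff_eq_inv, z_inv] at hc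
    have : orderOf z ∣ orderOf g := hc ▸ orderOf_pow_dvd j
    rw [orderOf_z] at this
    omega

theorem exists_orderOf {k : ℕ} (hk : 0 < k) :
    ∀ m ∈ [1, 2, 3, 4, 5, 6, 7, 8, 9, 10, 12, 15, 21], ∃ x : Ext k, orderOf x = m := by
  have inr_ord : ∀ g : X, ∃ x : Ext k, orderOf x = orderOf g := fun g =>
    ⟨SemidirectProduct.inr g, orderOf_injective _ SemidirectProduct.inr_injective g⟩
  have pow12 : ∀ d, d ∣ 12 → d ≠ 0 → ∃ x : Ext k, orderOf x = 12 / d := fun d hd hd0 => by
    obtain ⟨x, hx⟩ := inr_ord (x12 ^ d)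
    exact ⟨x, by rw [hx, orderOf_pow' _ hd0, orderOf_x12, Nat.gcd_eq_right hd]⟩
  have pow10 : ∀ d, d ∣ 10 → d ≠ 0 → ∃ x : Ext k, orderOf x = 10 / d := fun d hd hd0 => by
    obtain ⟨x, hx⟩ := inr_ord (x10 ^ d)
    exact ⟨x, by rw [hx, orderOf_pow' _ hd0, orderOf_x10, Nat.gcd_eq_right hd]⟩
  have mixed : ∀ (g : X), g ≠ 1 → orderOf g % 2 = 1 → ∃ x : Ext k, orderOf x = orderOf g * 3 := fun g hg ho => by
    refine ⟨⟨Multiplicative.ofAdd (0, delta), g⟩, ?_⟩
    rw [orderOf_eq]
    show orderOf g * addOrderOf (norm k g (orderOf g) (0, delta)) = _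
    congr 1
    exact addOrderOf_eq_prime (three_nsmul_eq_zero (norm_fst_zero hg _)) (norm_delta_ne ho)
  have plain : ∀ v : V k, ∃ x : Ext k, orderOf x = addOrderOf v := fun v =>
    ⟨SemidirectProduct.inl (Multiplicative.ofAdd v), by
      rw [orderOf_injective _ SemidirectProduct.inl_injective, orderOf_ofAdd_eq_addOrderOf]⟩
  let e : V k := (fun _ _ => 1, 0)
  have he : addOrderOf e = 7 := by
    refine addOrderOf_eq_prime (hp := ⟨by norm_num⟩) (V_ext (fun i => ?_) fun x => ?_) ?_
    · funext j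
      show 7 • (1 : ZMod 7) = 0
      decide
    · show 7 • (0 : ZMod 3) = 0
      simp
    · intro h
      exact (by decide : (1 : ZMod 7) ≠ 0) (congrFun (congrFun (congrArg Prod.fst h) ⟨0, hk⟩) 0)
  let f : V k := (fun _ _ => 1, delta)
  have hf : addOrderOf f = 21 := by
    have h21 := addOrderOf_dvd_of_nsmul_eq_zero (twentyone_nsmul_eq_zero f)
    have hmem : addOrderOf f ∈ Nat.divisors 21 := Nat.mem_divisors.2 ⟨h21, by norm_num⟩
    rw [show Nat.divisors 21 = {1, 3, 7, 21} by decide] at hmem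
    simp only [Finset.mem_insert, Finset.mem_singleton] at hmem
    have h0 := addOrderOf_nsmul_eq_zero f
    have a := congrFun (congrFun (congrArg Prod.fst h0) ⟨0, hk⟩) 0
    have b := congrArg (fun w : V k => (w.2 : X → ZMod 3) 1) h0
    change addOrderOf f • (1 : ZMod 7) = 0 at a
    change addOrderOf f • (delta : X → ZMod 3) 1 = 0 at b
    rw [delta_one] at b
    rcases hmem with h | h | h | h
    · rw [h] at a; exact absurd a (by decide)
    · rw [h] at a; exact absurd a (by decide)
    · rw [h] at b; exact absurd b (by decide)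
    · exact h
  have h5 : orderOf (x10 ^ 2) = 5 := by rw [orderOf_pow' _ two_ne_zero, orderOf_x10]; norm_num
  have h3 : orderOf (x12 ^ 4) = 3 := by rw [orderOf_pow' _ (by norm_num), orderOf_x12]; norm_num
  intro m hm
  simp only [List.mem_cons, List.not_mem_nil, or_false] at hm
  rcases hm with rfl | rfl | rfl | rfl | rfl | rfl | rfl | rfl | rfl | rfl | rfl | rfl | rfl
  · exact ⟨1, orderOf_one⟩
  · exact pow12 6 (by norm_num) (by norm_num)
  · exact pow12 4 (by norm_num) (by norm_num)
  · exact pow12 3 (by norm_num) (by norm_num)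
  · exact pow10 2 (by norm_num) (by norm_num)
  · exact pow12 2 (by norm_num) (by norm_num)
  · exact (plain e).imp fun _ hx => hx.trans he
  · exact (inr_ord x8).imp fun _ hx => hx.trans orderOf_x8
  · obtain ⟨x, hx⟩ := mixed (x12 ^ 4) (fun h => by rw [h, orderOf_one] at h3; omega) (by rw [h3])
    exact ⟨x, by rw [hx, h3]⟩
  · exact pow10 1 (by norm_num) (by norm_num)
  · exact pow12 1 (by norm_num) (by norm_num)
  · obtain ⟨x, hx⟩ := mixed (x10 ^ 2) (fun h => by rw [h, orderOf_one] at h5; omega) (by rw [h5])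
    exact ⟨x, by rw [hx, h5]⟩
  · exact (plain f).imp fun _ hx => hx.trans hf

theorem le_card (k : ℕ) : k ≤ Nat.card (Ext k) := by
  let φ : Fin k → Ext k := fun i =>
    SemidirectProduct.inl (Multiplicative.ofAdd ((fun j _ => if j = i then 1 else 0), 0))
  have hφ : Function.Injective φ := fun i j h => by
    have h' := congrFun (congrFun (congrArg Prod.fst
      (Multiplicative.ofAdd.injective (SemidirectProduct.inl_injective h))) i) 0
    by_contra hne
    simp [hne] at h'
    exact (by decide : (1 : ZMod 7) ≠ 0) h'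
  simpa using Nat.card_le_card_of_injective φ hφ

end CfsgLib.TwoS5
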