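import Cfsg.Agent.Lib.AlmostAll.ModuleExt
import Mathlib.GroupTheory.SpecificGroups.Alternating
import Mathlib.GroupTheory.Perm.Centralizer
import Mathlib.Data.ZMod.Basic

/-!
The six-dimensional module of the alternating group of degree eight over the field of two elements, and
the element orders of its extensions by copies of it: those of the symmetric group of degree eight.
-/

set_option autoImplicit false

namespace CfsgLib.HeartEight

open Equiv

/-- the orders -/
def spec : List ℕ := [1, 2, 3, 4, 5, 6, 7, 8, 10, 12, 15]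

/-- cycle types by the number of moved points -/
def types : ℕ → List (List ℕ)
  | 0 => [[]]
  | 2 => [[2]]
  | 3 => [[3]]
  | 4 => [[4], [2, 2]]
  | 5 => [[5], [3, 2]]
  | 6 => [[6], [4, 2], [3, 3], [2, 2, 2]]
  | 7 => [[7], [5, 2], [4, 3], [3, 2, 2]]
  | 8 => [[8], [6, 2], [5, 3], [4, 4], [4, 2, 2], [3, 3, 2], [2, 2, 2, 2]]
  | _ => []

theorem step : ∀ t a : Fin 9, 2 ≤ a.val → t.val + a.val ≤ 8 → ((types t.val).all fun l =>
    (types (t.val + a.val)).any fun m => decide (((a.val :: l : List ℕ) : Multiset ℕ) = (m : Multiset ℕ))) = true := by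
  decide +kernel

theorem mem_types (s : Multiset ℕ) : (∀ a ∈ s, 2 ≤ a) → s.sum ≤ 8 →
    ∃ l ∈ types s.sum, s = (l : Multiset ℕ) := by
  induction s using Multiset.induction with
  | empty => intro _ _; exact ⟨[], by simp [types], rfl⟩
  | cons a t ih =>
    intro h hs
    rw [Multiset.sum_cons] at hs
    obtain ⟨l, hl, rfl⟩ := ih (fun b hb => h b (Multiset.mem_cons_of_mem hb)) (by omega)
    have h' := List.all_eq_true.1
      (step ⟨(l : Multiset ℕ).sum, by omega⟩ ⟨a, by omega⟩ (h a (Multiset.mem_cons_self a _)) (by simp only; omega)) l hl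
    obtain ⟨m, hm, he⟩ := List.any_eq_true.1 h'
    refine ⟨m, ?_, ?_⟩
    · rw [Multiset.sum_cons, Nat.add_comm]
      exact hm
    · rw [Multiset.cons_coe]
      exact of_decide_eq_true he

theorem exists_type (σ : Perm (Fin 8)) : ∃ t : Fin 9, ∃ l ∈ types t.val,
    σ.cycleType = (l : Multiset ℕ) ∧ orderOf σ = l.foldr Nat.lcm 1 := by
  have hsum : σ.cycleType.sum ≤ 8 := by
    rw [Perm.sum_cycleType]
    simpa using Finset.card_le_univ σ.support
  obtain ⟨l, hl, he⟩ := mem_types σ.cycleType (fun a ha => Perm.two_le_of_mem_cycleType ha) hsum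
  refine ⟨⟨σ.cycleType.sum, by omega⟩, l, hl, he, ?_⟩
  rw [← Perm.lcm_cycleType, he]
  rfl

theorem exists_of_type (l : List ℕ) (h2 : ∀ a ∈ l, 2 ≤ a) (hs : l.sum ≤ 8) :
    ∃ σ : Perm (Fin 8), σ.cycleType = (l : Multiset ℕ) ∧ orderOf σ = l.foldr Nat.lcm 1 := by
  have hne : ({g : Perm (Fin 8) | g.cycleType = (l : Multiset ℕ)} : Finset _).Nonempty := by
    rw [← Finset.card_ne_zero]
    intro h0
    rw [Perm.card_of_cycleType_eq_zero_iff] at h0
    exact h0 ⟨by simpa using hs, by simpa using h2⟩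
  obtain ⟨g, hg⟩ := hne
  simp only [Finset.mem_filter, Finset.mem_univ, true_and] at hg
  refine ⟨g, hg, ?_⟩
  rw [← Perm.lcm_cycleType, hg]
  rfl

/-- The element orders of the symmetric group of degree eight. -/
theorem range_perm : Set.range (orderOf : Perm (Fin 8) → ℕ) = {n | n ∈ spec} := by
  ext n
  constructor
  · rintro ⟨σ, rfl⟩
    obtain ⟨t, l, hl, -, ho⟩ := exists_type σ
    rw [Set.mem_ofPred_eq, ho]
    have key : ∀ t : Fin 9, ((types t.val).all fun l => spec.contains (l.foldr Nat.lcm 1)) = true := by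
      decide +kernel
    simpa using List.all_eq_true.1 (key t) l hl
  · intro h
    have key : ∀ n ∈ spec, ∃ t : Fin 9, ((types t.val).any fun l =>
        decide ((∀ a ∈ l, 2 ≤ a) ∧ l.sum ≤ 8) && Nat.beq (l.foldr Nat.lcm 1) n) = true := by
      decide +kernel
    obtain ⟨t, ht⟩ := key n h
    obtain ⟨l, -, hl⟩ := List.any_eq_true.1 ht
    simp only [Bool.and_eq_true, decide_eq_true_eq] at hl
    obtain ⟨σ, -, ho⟩ := exists_of_type l hl.1.1 hl.1.2
    exact ⟨σ, ho.trans (Nat.eq_of_beq_eq_true hl.2)⟩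

/-- even functions vanishing at the last point -/
def heart : AddSubgroup (Fin 8 → ZMod 2) where
  carrier := {f | ∑ i, f i = 0 ∧ f 7 = 0}
  zero_mem' := by simp
  add_mem' := fun {f g} hf hg => by simp [Finset.sum_add_distrib, hf.1, hf.2, hg.1, hg.2]
  neg_mem' := fun {f} hf => by simp [hf.1, hf.2]

/-- the moved function, normalised at the last point -/
def mv (g : Perm (Fin 8)) (f : Fin 8 → ZMod 2) : Fin 8 → ZMod 2 := fun x => f (g.symm x) - f (g.symm 7)

theorem mv_mem (g : Perm (Fin 8)) {f : Fin 8 → ZMod 2} (hf : f ∈ heart) : mv g f ∈ heart := by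
  refine ⟨?_, sub_self _⟩
  simp only [mv, Finset.sum_sub_distrib, Finset.sum_const, Finset.card_univ, Fintype.card_fin]
  rw [Equiv.sum_comp g.symm f, hf.1, nsmul_eq_mul, show ((8 : ℕ) : ZMod 2) = 0 by decide, zero_mul, sub_zero]

instance : DistribMulAction (Perm (Fin 8)) heart where
  smul g w := ⟨mv g w.1, mv_mem g w.2⟩
  one_smul w := Subtype.ext (funext fun x => show w.1 x - w.1 7 = w.1 x by rw [w.2.2, sub_zero])
  mul_smul g h w := Subtype.ext (funext fun x => by
    show w.1 (h.symm (g.symm x)) - w.1 (h.symm (g.symm 7)) =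
      (w.1 (h.symm (g.symm x)) - w.1 (h.symm 7)) - (w.1 (h.symm (g.symm 7)) - w.1 (h.symm 7))
    ring)
  smul_zero g := Subtype.ext (funext fun x => show (0 : ZMod 2) - 0 = 0 from sub_zero _)
  smul_add g v w := Subtype.ext (funext fun x => by
    show (v.1 (g.symm x) + w.1 (g.symm x)) - (v.1 (g.symm 7) + w.1 (g.symm 7)) =
      (v.1 (g.symm x) - v.1 (g.symm 7)) + (w.1 (g.symm x) - w.1 (g.symm 7))
    ring)

theorem two_nsmul_eq_zero (w : heart) : 2 • w = 0 := Subtype.ext (funext fun x => by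
  show 2 • w.1 x = 0
  rw [nsmul_eq_mul, show ((2 : ℕ) : ZMod 2) = 0 by decide, zero_mul])

/-- the orbit sum -/
def osum (n : ℕ) (g : Perm (Fin 8)) (f : Fin 8 → ZMod 2) (x : Fin 8) : ZMod 2 :=
  (List.range n).foldl (fun s j => s + f ((g ^ j).symm x)) 0

theorem osum_eq (n : ℕ) (g : Perm (Fin 8)) (f : Fin 8 → ZMod 2) (x : Fin 8) :
    osum n g f x = ∑ j ∈ Finset.range n, f ((g ^ j).symm x) := by
  induction n with
  | zero => rfl
  | succ n ih => rw [osum, List.range_succ, List.foldl_append, Finset.sum_range_succ, ← ih]; rfl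

theorem sum_smul_apply (n : ℕ) (g : Perm (Fin 8)) (w : heart) (x : Fin 8) :
    (↑(∑ j ∈ Finset.range n, g ^ j • w) : Fin 8 → ZMod 2) x = osum n g w.1 x - osum n g w.1 7 := by
  rw [AddSubgroup.val_finsetSum, Finset.sum_apply, osum_eq, osum_eq, ← Finset.sum_sub_distrib]
  rfl

/-- a seven-cycle -/
def c7 : Perm (Fin 8) := ⟨![1, 2, 3, 4, 5, 6, 0, 7], ![6, 0, 1, 2, 3, 4, 5, 7], by decide, by decide⟩

/-- a five-cycle and a three-cycle -/
def c15 : Perm (Fin 8) := ⟨![1, 2, 3, 4, 0, 6, 7, 5], ![4, 0, 1, 2, 3, 7, 5, 6], by decide, by decide⟩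

theorem c7_zero : ∀ f : Fin 8 → ZMod 2, ∑ i, f i = 0 → f 7 = 0 → ∀ x, osum 7 c7 f x = osum 7 c7 f 7 := by
  decide +kernel

theorem c15_zero : ∀ f : Fin 8 → ZMod 2, ∑ i, f i = 0 → f 7 = 0 → ∀ x, osum 15 c15 f x = osum 15 c15 f 7 := by
  decide +kernel

theorem nm_conj_zero {g g' : Perm (Fin 8)} (hc : IsConj g g') {n : ℕ}
    (h : ∀ w : heart, ∑ j ∈ Finset.range n, g ^ j • w = 0) (w : heart) :
    ∑ j ∈ Finset.range n, g' ^ j • w = 0 := by
  obtain ⟨c, hc⟩ := isConj_iff.1 hc
  rw [← hc]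
  calc ∑ j ∈ Finset.range n, (c * g * c⁻¹) ^ j • w
      = ∑ j ∈ Finset.range n, c • (g ^ j • (c⁻¹ • w)) :=
        Finset.sum_congr rfl fun j _ => by rw [conj_pow, mul_smul, mul_smul]
    _ = 0 := by rw [← Finset.smul_sum, h, smul_zero]

theorem nm_zero (σ : Perm (Fin 8)) (h : orderOf σ = 7 ∨ orderOf σ = 15) (w : heart) :
    ∑ j ∈ Finset.range (orderOf σ), σ ^ j • w = 0 := by
  obtain ⟨t, l, hl, ht, ho⟩ := exists_type σ
  have key : ∀ t : Fin 9, ((types t.val).all fun l =>
      !(Nat.beq (l.foldr Nat.lcm 1) 7) || decide (l = [7])) = true := by decide +kernel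
  have key' : ∀ t : Fin 9, ((types t.val).all fun l =>
      !(Nat.beq (l.foldr Nat.lcm 1) 15) || decide (l = [5, 3])) = true := by decide +kernel
  have h7 : c7.cycleType = ([7] : List ℕ) := by decide +kernel
  have h15 : c15.cycleType = ([5, 3] : List ℕ) := by decide +kernel
  rcases h with h | h <;> rw [h] <;> rw [ho] at h
  · have := List.all_eq_true.1 (key t) l hl
    rw [h] at this
    obtain rfl : l = [7] := by simpa using this
    refine nm_conj_zero (Perm.isConj_iff_cycleType_eq.2 (h7.trans ht.symm))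
      (fun v => Subtype.ext (funext fun x => ?_)) w
    rw [sum_smul_apply, c7_zero v.1 v.2.1 v.2.2, sub_self]
    rfl
  · have := List.all_eq_true.1 (key' t) l hl
    rw [h] at this
    obtain rfl : l = [5, 3] := by simpa using this
    refine nm_conj_zero (Perm.isConj_iff_cycleType_eq.2 (h15.trans ht.symm))
      (fun v => Subtype.ext (funext fun x => ?_)) w
    rw [sum_smul_apply, c15_zero v.1 v.2.1 v.2.2, sub_self]
    rfl

/-- the extension -/
abbrev Ext (k : ℕ) : Type := CfsgLib.ModuleExt.Ext (alternatingGroup (Fin 8)) heart k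

theorem nm_eq (g : alternatingGroup (Fin 8)) (w : heart) :
    CfsgLib.ModuleExt.nm g w = ∑ j ∈ Finset.range (orderOf (g : Perm (Fin 8))), (g : Perm (Fin 8)) ^ j • w := by
  rw [CfsgLib.ModuleExt.nm, Subgroup.orderOf_coe]
  rfl

theorem exists_double (m : ℕ) (g : Perm (Fin 8)) (f : Fin 8 → ZMod 2) (x : Fin 8)
    (hs : Perm.sign g = 1) (hf : ∑ i, f i = 0 ∧ f 7 = 0) (ho : orderOf g = m)
    (hne : osum m g f x - osum m g f 7 ≠ 0) :
    ∃ a : alternatingGroup (Fin 8), (∃ w : heart, CfsgLib.ModuleExt.nm a w ≠ (0 : heart)) ∧ orderOf a = m := by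
  refine ⟨⟨g, hs⟩, ⟨⟨f, hf⟩, fun h => hne ?_⟩, by rw [← Subgroup.orderOf_coe]; exact ho⟩
  rw [nm_eq] at h
  simp only [ho] at h
  have h' := congrFun (congrArg Subtype.val h) x
  rw [sum_smul_apply] at h'
  exact h'

/-- a four-cycle and a two-cycle -/
def c4 : Perm (Fin 8) := ⟨![1, 2, 3, 0, 5, 4, 6, 7], ![3, 0, 1, 2, 5, 4, 6, 7], by decide, by decide⟩

/-- a five-cycle -/
def c5 : Perm (Fin 8) := ⟨![1, 2, 3, 4, 0, 5, 6, 7], ![4, 0, 1, 2, 3, 5, 6, 7], by decide, by decide⟩

/-- a three-cycle and two two-cycles -/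
def c6 : Perm (Fin 8) := ⟨![1, 2, 0, 4, 3, 6, 5, 7], ![2, 0, 1, 4, 3, 6, 5, 7], by decide, by decide⟩

theorem range_ext {k : ℕ} (hk : 0 < k) : Set.range (orderOf : Ext k → ℕ) = {n | n ∈ spec} := by
  rw [CfsgLib.ModuleExt.range_orderOf Nat.prime_two two_nsmul_eq_zero hk]
  ext n
  constructor
  · rintro (⟨g, rfl⟩ | ⟨g, ⟨w, hw⟩, rfl⟩)
    · show orderOf g ∈ spec
      have : orderOf (g : Perm (Fin 8)) ∈ Set.range (orderOf : Perm (Fin 8) → ℕ) := ⟨_, rfl⟩
      rw [range_perm, Set.mem_ofPred_eq, Subgroup.orderOf_coe] at this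
      exact this
    · show 2 * orderOf g ∈ spec
      have h7 : ¬ (orderOf (g : Perm (Fin 8)) = 7 ∨ orderOf (g : Perm (Fin 8)) = 15) := fun h =>
        hw (by rw [nm_eq]; exact nm_zero _ h w)
      rw [← Subgroup.orderOf_coe]
      obtain ⟨t, l, hl, hc, ho⟩ := exists_type (g : Perm (Fin 8))
      have heven : Even (l.sum + l.length) := by
        have h := g.2
        rw [Perm.mem_alternatingGroup, Perm.sign_of_cycleType, hc] at h
        rcases Nat.even_or_odd (l.sum + l.length) with he | hod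
        · exact he
        · rw [Multiset.sum_coe, Multiset.coe_card, hod.neg_one_pow] at h
          exact absurd h (by decide)
      have key : ∀ t : Fin 9, ((types t.val).all fun l => Nat.beq ((l.sum + l.length) % 2) 1 ||
          Nat.beq (l.foldr Nat.lcm 1) 7 || Nat.beq (l.foldr Nat.lcm 1) 15 ||
          spec.contains (2 * l.foldr Nat.lcm 1)) = true := by decide +kernel
      have hk' := List.all_eq_true.1 (key t) l hl
      rw [ho] at h7 ⊢
      simp only [Bool.or_eq_true, List.contains_iff_mem] at hk'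
      rcases hk' with ((h | h) | h) | h
      · have := Nat.eq_of_beq_eq_true h; have := Nat.even_iff.1 heven; omega
      · exact absurd (Or.inl (Nat.eq_of_beq_eq_true h)) h7
      · exact absurd (Or.inr (Nat.eq_of_beq_eq_true h)) h7
      · exact h
  · intro hn
    simp only [spec, Set.mem_ofPred_eq, List.mem_cons, List.not_mem_nil, or_false] at hn
    have one : ∀ σ : Perm (Fin 8), Perm.sign σ = 1 → ∀ d, orderOf σ = d →
        ∃ g : alternatingGroup (Fin 8), orderOf g = d := fun σ hs d hd =>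
      ⟨⟨σ, hs⟩, by rw [← Subgroup.orderOf_coe]; exact hd⟩
    have two : ∀ m, (∃ a : alternatingGroup (Fin 8), (∃ w : heart, CfsgLib.ModuleExt.nm a w ≠ (0 : heart)) ∧
        orderOf a = m) → ∃ a : alternatingGroup (Fin 8), (∃ w : heart, CfsgLib.ModuleExt.nm a w ≠ (0 : heart)) ∧
        2 * orderOf a = 2 * m := fun m ⟨a, ha, h⟩ => ⟨a, ha, by rw [h]⟩
    have o4 : orderOf c4 = 4 := (orderOf_eq_iff (by norm_num)).2 ⟨by decide +kernel, by decide +kernel⟩
    have o5 : orderOf c5 = 5 := (orderOf_eq_iff (by norm_num)).2 ⟨by decide +kernel, by decide +kernel⟩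
    have o6 : orderOf c6 = 6 := (orderOf_eq_iff (by norm_num)).2 ⟨by decide +kernel, by decide +kernel⟩
    have o7 : orderOf c7 = 7 := (orderOf_eq_iff (by norm_num)).2 ⟨by decide +kernel, by decide +kernel⟩
    have o15 : orderOf c15 = 15 := (orderOf_eq_iff (by norm_num)).2 ⟨by decide +kernel, by decide +kernel⟩
    rcases hn with rfl | rfl | rfl | rfl | rfl | rfl | rfl | rfl | rfl | rfl | rfl
    · exact Or.inl (one 1 (by simp) 1 orderOf_one)
    · exact Or.inl (one (c4 ^ 2) (by decide +kernel) 2 (by rw [orderOf_pow' _ two_ne_zero, o4]; rfl))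
    · exact Or.inl (one (c6 ^ 2) (by decide +kernel) 3 (by rw [orderOf_pow' _ two_ne_zero, o6]; rfl))
    · exact Or.inl (one c4 (by decide +kernel) 4 o4)
    · exact Or.inl (one c5 (by decide +kernel) 5 o5)
    · exact Or.inl (one c6 (by decide +kernel) 6 o6)
    · exact Or.inl (one c7 (by decide +kernel) 7 o7)
    · exact Or.inr (two 4 (exists_double 4 c4 ![1, 0, 0, 0, 0, 0, 1, 0] 0 (by decide +kernel)
        (by decide) o4 (by decide +kernel)))
    · exact Or.inr (two 5 (exists_double 5 c5 ![1, 0, 0, 0, 0, 1, 0, 0] 0 (by decide +kernel)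
        (by decide) o5 (by decide +kernel)))
    · exact Or.inr (two 6 (exists_double 6 c6 ![1, 0, 0, 1, 0, 0, 0, 0] 3 (by decide +kernel)
        (by decide) o6 (by decide +kernel)))
    · exact Or.inl (one c15 (by decide +kernel) 15 o15)

theorem le_card (k : ℕ) : k ≤ Nat.card (Ext k) :=
  CfsgLib.ModuleExt.le_card (w := (⟨![1, 1, 0, 0, 0, 0, 0, 0], by decide, rfl⟩ : heart))
    fun h => absurd (congrFun (congrArg Subtype.val h) 0) (by decide)

end CfsgLib.HeartEight
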