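import Mathlib.GroupTheory.SemidirectProduct
import Mathlib.GroupTheory.OrderOfElement
import Mathlib.Algebra.GroupWithZero.Action.Defs
import Mathlib.Tactic

/-!
Element orders in extensions of many copies of a module of prime exponent.
-/

set_option autoImplicit false

namespace CfsgLib.ModuleExt

variable (X W : Type) [Group X] [AddCommGroup W] [DistribMulAction X W]

/-- action on the copies -/
def act (k : ℕ) : X →* MulAut (Multiplicative (Fin k → W)) where
  toFun g :=
    { toFun := fun v => .ofAdd fun i => g • v.toAdd i
      invFun := fun v => .ofAdd fun i => g⁻¹ • v.toAdd i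
      left_inv := fun v => congrArg Multiplicative.ofAdd (funext fun i => inv_smul_smul g (v.toAdd i))
      right_inv := fun v => congrArg Multiplicative.ofAdd (funext fun i => smul_inv_smul g (v.toAdd i))
      map_mul' := fun v w => congrArg Multiplicative.ofAdd (funext fun i => smul_add g (v.toAdd i) (w.toAdd i)) }
  map_one' := MulEquiv.ext fun v => congrArg Multiplicative.ofAdd (funext fun i => one_smul X (v.toAdd i))
  map_mul' g h := MulEquiv.ext fun v => congrArg Multiplicative.ofAdd (funext fun i => mul_smul g h (v.toAdd i))

/-- the extension -/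
abbrev Ext (k : ℕ) : Type := Multiplicative (Fin k → W) ⋊[act X W k] X

variable {X W}

instance [Finite X] [Finite W] (k : ℕ) : Finite (Ext X W k) :=
  Finite.of_equiv _ SemidirectProduct.equivProd.symm

/-- the norm map of an element -/
noncomputable def nm (g : X) (w : W) : W := ∑ j ∈ Finset.range (orderOf g), g ^ j • w

theorem pow_right {k : ℕ} (x : Ext X W k) (n : ℕ) : (x ^ n).right = x.right ^ n :=
  map_pow (SemidirectProduct.rightHom (φ := act X W k)) x n

theorem pow_left {k : ℕ} (x : Ext X W k) : ∀ (n : ℕ) (i : Fin k),
    (x ^ n).left.toAdd i = ∑ j ∈ Finset.range n, x.right ^ j • x.left.toAdd i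
  | 0, i => by simp
  | n + 1, i => by
    rw [pow_succ, SemidirectProduct.mul_left, pow_right, toAdd_mul, Pi.add_apply, pow_left x n i,
      Finset.sum_range_succ]
    rfl

theorem nm_of_one (w : W) : nm (1 : X) w = w := by simp [nm]

variable [Finite X] [Finite W] {r : ℕ} (hr : r.Prime) (hW : ∀ w : W, r • w = 0)

include hr hW in
/-- The element orders of the extension. -/
theorem range_orderOf {k : ℕ} (hk : 0 < k) :
    Set.range (orderOf : Ext X W k → ℕ) =
      {n | (∃ g : X, orderOf g = n) ∨ ∃ g : X, (∃ w : W, nm g w ≠ (0 : W)) ∧ r * orderOf g = n} := by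
  have := Fact.mk hr
  have hpow : ∀ x : Ext X W k,
      x ^ orderOf x.right = SemidirectProduct.inl (x ^ orderOf x.right).left := fun x =>
    SemidirectProduct.ext rfl (by rw [pow_right, pow_orderOf_eq_one, SemidirectProduct.right_inl])
  have hleft : ∀ (x : Ext X W k) (i : Fin k),
      (x ^ orderOf x.right).left.toAdd i = nm x.right (x.left.toAdd i) := fun x i => pow_left x _ i
  have hr' : ∀ x : Ext X W k, (x ^ orderOf x.right).left ^ r = 1 := fun x =>
    Multiplicative.toAdd.injective (funext fun i => by
      rw [toAdd_pow, Pi.smul_apply, hW]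
      rfl)
  have key : ∀ x : Ext X W k, orderOf x = orderOf x.right * orderOf (x ^ orderOf x.right).left := by
    intro x
    have hd : orderOf x.right ∣ orderOf x := orderOf_map_dvd (SemidirectProduct.rightHom (φ := act X W k)) x
    have h1 : orderOf (x ^ orderOf x.right) = orderOf (x ^ orderOf x.right).left := by
      conv_lhs => rw [hpow x]
      exact orderOf_injective _ SemidirectProduct.inl_injective _
    rw [← h1, orderOf_pow' x (orderOf_pos _).ne', Nat.gcd_eq_right hd, Nat.mul_div_cancel' hd]
  ext n
  constructor
  · rintro ⟨x, rfl⟩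
    by_cases h : ∀ i, nm x.right (x.left.toAdd i) = 0
    · refine Or.inl ⟨x.right, ?_⟩
      rw [key x, show (x ^ orderOf x.right).left = 1 from
        Multiplicative.toAdd.injective (funext fun i => (hleft x i).trans (h i)), orderOf_one, mul_one]
    · push Not at h
      obtain ⟨i, hi⟩ := h
      refine Or.inr ⟨x.right, ⟨_, hi⟩, ?_⟩
      rw [key x, orderOf_eq_prime (hr' x) (fun h1 => hi (by rw [← hleft x i, h1]; rfl)), mul_comm]
  · rintro (⟨g, rfl⟩ | ⟨g, ⟨w, hw⟩, rfl⟩)
    · exact ⟨SemidirectProduct.inr g, orderOf_injective _ SemidirectProduct.inr_injective g⟩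
    · let x : Ext X W k := ⟨Multiplicative.ofAdd fun _ => w, g⟩
      refine ⟨x, ?_⟩
      have h1 : (x ^ orderOf x.right).left ≠ 1 := fun h1 => hw (by
        have := hleft x ⟨0, hk⟩
        rw [h1] at this
        exact this.symm)
      rw [key x, orderOf_eq_prime (hr' x) h1, mul_comm]

/-- A nontrivial module gives at least as many elements as copies. -/
theorem le_card {k : ℕ} {w : W} (hw : w ≠ 0) : k ≤ Nat.card (Ext X W k) := by
  classical
  let f : Fin k → Ext X W k := fun i => SemidirectProduct.inl (Multiplicative.ofAdd (Pi.single i w))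
  have hf : Function.Injective f := fun i j h => by
    by_contra hne
    have h' := congrFun (Multiplicative.ofAdd.injective (SemidirectProduct.inl_injective h)) i
    rw [Pi.single_eq_same, Pi.single_eq_of_ne hne] at h'
    exact hw h'
  simpa using Nat.card_le_card_of_injective f hf

end CfsgLib.ModuleExt
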