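import Cfsg.Agent.Lib.TwoDim.Basic
import Cfsg.Agent.Lib.Spectrum.LinearElements
import Mathlib.FieldTheory.Finite.Extension
import Mathlib.LinearAlgebra.Matrix.GeneralLinearGroup.Basic
import Mathlib.Algebra.CharP.Frobenius

/-!
Element orders of the projective general linear groups in dimension two over finite fields of odd order.
-/

set_option autoImplicit false

namespace CfsgLib.PGLTwoOrders

open Matrix

variable {F : Type*} [Field F]

/-- the projective group -/
abbrev P (F : Type*) [Field F] : Type _ :=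
  GeneralLinearGroup (Fin 2) F ⧸ Subgroup.center (GeneralLinearGroup (Fin 2) F)

theorem mk_pow_eq_one_iff (g : GeneralLinearGroup (Fin 2) F) (k : ℕ) :
    (QuotientGroup.mk g : P F) ^ k = 1 ↔
      ∃ c : F, (g : Matrix (Fin 2) (Fin 2) F) ^ k = c • (1 : Matrix (Fin 2) (Fin 2) F) := by
  rw [← QuotientGroup.mk_pow, QuotientGroup.eq_one_iff,
    GeneralLinearGroup.mem_center_iff_val_mem_range_scalar, Set.mem_range]
  simp only [Units.val_pow_eq_pow_val, ← Matrix.smul_one_eq_diagonal, Matrix.scalar_apply, eq_comm]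

theorem exists_linear (M : Matrix (Fin 2) (Fin 2) F) : ∀ n : ℕ, ∃ x y : F,
    M ^ n = x • M + y • (1 : Matrix (Fin 2) (Fin 2) F)
  | 0 => ⟨0, 1, by simp⟩
  | n + 1 => by
    obtain ⟨x, y, h⟩ := exists_linear M n
    refine ⟨x * M.trace + y, -(x * M.det), ?_⟩
    rw [pow_succ, h, add_mul, smul_mul_assoc, smul_mul_assoc, one_mul, CfsgLib.TwoDim.sq_eq, smul_sub,
      smul_smul, smul_smul, add_smul, neg_smul]
    abel

variable [Fintype F]

theorem two_ne_zero_of_odd (h : Odd (Fintype.card F)) : (2 : F) ≠ 0 := by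
  refine Ring.two_ne_zero (fun hc => ?_)
  have := FiniteField.even_card_of_char_two hc
  rcases h with ⟨m, hm⟩
  omega

theorem pow_cases (p : ℕ) [Fact p.Prime] [CharP F p] (h : Odd (Fintype.card F))
    (g : GeneralLinearGroup (Fin 2) F) :
    (QuotientGroup.mk g : P F) ^ p = 1 ∨ (QuotientGroup.mk g : P F) ^ (Fintype.card F - 1) = 1 ∨
      (QuotientGroup.mk g : P F) ^ (Fintype.card F + 1) = 1 := by
  simp only [mk_pow_eq_one_iff]
  set M : Matrix (Fin 2) (Fin 2) F := (g : Matrix (Fin 2) (Fin 2) F) with hMdef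
  by_cases hs : ∃ c : F, M = c • (1 : Matrix (Fin 2) (Fin 2) F)
  · obtain ⟨c, hc⟩ := hs
    exact Or.inl ⟨c ^ p, by rw [hc, smul_pow, one_pow]⟩
  push Not at hs
  have h2 := two_ne_zero_of_odd h
  obtain ⟨m, -, hm⟩ := FiniteField.card F p
  set t := M.trace
  set d := M.det
  have hnil : ∀ (N : Matrix (Fin 2) (Fin 2) F), N * N = 0 → ∀ a : F,
      (a • (1 : Matrix (Fin 2) (Fin 2) F) + N) ^ p = a ^ p • (1 : Matrix (Fin 2) (Fin 2) F) := by
    intro N hN a
    rw [add_pow_char_of_commute _ ((Commute.one_left N).smul_left a), smul_pow, one_pow,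
      show p = 2 + (p - 2) by have := (Fact.out : p.Prime).two_le; omega, pow_add N, sq, hN, zero_mul, add_zero]
  -- the double root case
  have hdouble : t ^ 2 = 4 * d → ∃ c : F, M ^ p = c • (1 : Matrix (Fin 2) (Fin 2) F) := by
    intro htd
    have hN : (M - (t / 2) • (1 : Matrix (Fin 2) (Fin 2) F)) * (M - (t / 2) • 1) = 0 := by
      rw [sub_mul, mul_sub, mul_sub, CfsgLib.TwoDim.sq_eq, mul_smul_comm, smul_mul_assoc, mul_one, one_mul,
        smul_mul_assoc, one_mul, smul_smul]
      have e1 : d = (t / 2) * (t / 2) := by field_simp; linear_combination -htd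
      rw [show M.trace = t / 2 + t / 2 by field_simp; ring, show M.det = (t / 2) * (t / 2) from e1, add_smul]
      abel
    exact ⟨(t / 2) ^ p, by rw [← hnil _ hN (t / 2), add_sub_cancel]⟩
  obtain ⟨x, y, hxy⟩ := exists_linear M (Fintype.card F)
  have hfrob : M ^ (Fintype.card F) * M ^ (Fintype.card F) = t • M ^ (Fintype.card F) - d • (1 : Matrix (Fin 2) (Fin 2) F) := by
    rw [← (Commute.refl M).mul_pow, CfsgLib.TwoDim.sq_eq, hm,
      sub_pow_char_pow_of_commute _ _ (((Commute.one_right M).smul_left _).smul_right _), smul_pow, smul_pow,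
      one_pow, ← hm, FiniteField.pow_card, FiniteField.pow_card]
  rw [hxy, add_mul, mul_add, mul_add, smul_mul_smul_comm, CfsgLib.TwoDim.sq_eq] at hfrob
  simp only [smul_mul_smul_comm, mul_one, one_mul, smul_sub, smul_add, smul_smul] at hfrob
  obtain ⟨e1, e2⟩ := CfsgLib.TwoDim.coeff_eq_zero M hs
    (a := x * x * t + 2 * (x * y) - t * x) (b := y * y - x * x * d - t * y + d) (by
      rw [← sub_eq_zero] at hfrob
      refine Eq.trans ?_ hfrob
      module)
  by_cases htd : t ^ 2 = 4 * d
  · exact Or.inl (hdouble htd)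
  by_cases hx : x = 0
  · exfalso
    subst hx
    rw [zero_smul, zero_add] at hxy
    have hy : y ^ (Fintype.card F) = y := FiniteField.pow_card y
    have hN : (M - y • (1 : Matrix (Fin 2) (Fin 2) F)) ^ (Fintype.card F) = 0 := by
      rw [hm, sub_pow_char_pow_of_commute _ _ ((Commute.one_right M).smul_right y), smul_pow, one_pow,
        ← hm, hxy, hy, sub_self]
    set N := M - y • (1 : Matrix (Fin 2) (Fin 2) F) with hNdef
    have hqpos : (Fintype.card F) ≠ 0 := Fintype.card_ne_zero
    have hdet : N.det = 0 := by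
      have := congrArg Matrix.det hN
      rw [Matrix.det_pow, Matrix.det_zero] at this
      exact (pow_eq_zero_iff hqpos).1 this
    have hs' : ∀ n : ℕ, N ^ (n + 1) = N.trace ^ n • N := by
      intro n
      induction n with
      | zero => simp
      | succ n ih =>
        rw [pow_succ, ih, smul_mul_assoc, CfsgLib.TwoDim.sq_eq, hdet, zero_smul, sub_zero, smul_smul, pow_succ]
    have hN0 : N ≠ 0 := fun h0 => hs y (sub_eq_zero.1 h0)
    have htr : N.trace = 0 := by
      obtain ⟨n, hn⟩ := Nat.exists_eq_succ_of_ne_zero hqpos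
      rw [hn, hs', smul_eq_zero] at hN
      exact eq_zero_of_pow_eq_zero (hN.resolve_right hN0)
    rw [hNdef, Matrix.trace_sub, Matrix.trace_smul, Matrix.trace_one, Fintype.card_fin, sub_eq_zero] at htr
    apply htd
    have hy2 : t = y * 2 := by simpa using htr
    linear_combination (t - 2 * y) * hy2 - 4 * e2
  have hy : 2 * y = t * (1 - x) := by
    have : x * (x * t + 2 * y - t) = 0 := by linear_combination e1
    linear_combination (mul_eq_zero.1 this).resolve_left hx
  have hx2 : (1 - x * x) * (4 * d - t ^ 2) = 0 := by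
    linear_combination 4 * e2 - (2 * y + t * (1 - x) - 2 * t) * hy
  have hd : d ≠ 0 := by
    have := (Matrix.GeneralLinearGroup.det g).ne_zero
    exact this
  rcases mul_eq_zero.1 hx2 with h1 | h1
  · rcases mul_self_eq_one_iff.1 (sub_eq_zero.1 h1).symm with rfl | rfl
    · right; left
      have hy0 : y = 0 := by
        have : (2 : F) * y = 0 := by linear_combination hy
        exact (mul_eq_zero.1 this).resolve_left h2
      rw [hy0, zero_smul, add_zero, one_smul] at hxy
      refine ⟨1, ?_⟩
      rw [one_smul]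
      have hu : IsUnit M := ⟨g, rfl⟩
      refine hu.mul_left_cancel ?_
      rw [← pow_succ', Nat.sub_add_cancel Fintype.card_pos, hxy, mul_one]
    · right; right
      have hyt : y = t := by
        have : (2 : F) * (y - t) = 0 := by linear_combination hy
        exact sub_eq_zero.1 ((mul_eq_zero.1 this).resolve_left h2)
      refine ⟨d, ?_⟩
      rw [pow_succ, hxy, hyt, add_mul, smul_mul_assoc, smul_mul_assoc, one_mul, CfsgLib.TwoDim.sq_eq]
      simp only [neg_smul, one_smul]
      abel
  · exact absurd (by linear_combination -h1) htd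

theorem exists_sub_one : ∃ x : P F, orderOf x = Fintype.card F - 1 := by
  classical
  obtain ⟨a, ha⟩ := IsCyclic.exists_ofOrder_eq_natCard (α := Fˣ)
  rw [Nat.card_eq_fintype_card, Fintype.card_units] at ha
  let u : GeneralLinearGroup (Fin 2) F := GeneralLinearGroup.mkOfDetNeZero !![(a : F), 0; 0, 1]
    (by simp [Matrix.det_fin_two])
  have hpow : ∀ k : ℕ, (u : Matrix (Fin 2) (Fin 2) F) ^ k = !![(a : F) ^ k, 0; 0, 1] := by
    intro k
    induction k with
    | zero => simp [Matrix.one_fin_two]
    | succ k ih =>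
      rw [pow_succ, ih]
      show !![(a : F) ^ k, 0; 0, 1] * !![(a : F), 0; 0, 1] = _
      simp [Matrix.mul_fin_two, pow_succ]
  refine ⟨QuotientGroup.mk u, ?_⟩
  rw [← ha]
  refine orderOf_eq_orderOf_iff.2 fun k => ?_
  rw [mk_pow_eq_one_iff]
  constructor
  · rintro ⟨c, hc⟩
    rw [hpow] at hc
    have h0 := congrFun (congrFun hc 0) 0
    have h1 := congrFun (congrFun hc 1) 1
    simp at h0 h1
    exact Units.ext (by rw [Units.val_pow_eq_pow_val, h0, ← h1, Units.val_one])
  · intro hk
    refine ⟨1, ?_⟩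
    rw [hpow, ← Units.val_pow_eq_pow_val, hk, one_smul]
    simp [Matrix.one_fin_two]

theorem exists_add_one (p : ℕ) [Fact p.Prime] [CharP F p] : ∃ x : P F, orderOf x = Fintype.card F + 1 := by
  classical
  haveI : NeZero 2 := ⟨two_ne_zero⟩
  set K := FiniteField.Extension F p 2
  have hK : Nat.card K = Fintype.card F ^ 2 := by
    rw [FiniteField.natCard_extension, Nat.card_eq_fintype_card]
  haveI : Finite K := Nat.finite_of_card_ne_zero (by rw [hK]; positivity)
  haveI : Fintype K := Fintype.ofFinite K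
  obtain ⟨z, hz⟩ := IsCyclic.exists_ofOrder_eq_natCard (α := Kˣ)
  rw [Nat.card_units, hK] at hz
  have hfin : Module.finrank F K = 2 := FiniteField.finrank_extension F p 2
  haveI : Module.Finite F K := Module.finite_of_finrank_eq_succ hfin
  let b := Module.finBasisOfFinrankEq F K hfin
  let u : GeneralLinearGroup (Fin 2) F :=
    Units.map (Algebra.leftMulMatrix b).toRingHom.toMonoidHom z
  refine ⟨QuotientGroup.mk u, Nat.dvd_antisymm ?_ ?_⟩
  · refine orderOf_dvd_of_pow_eq_one ((mk_pow_eq_one_iff u _).2 ?_)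
    obtain ⟨c, hc⟩ := CfsgLib.Spectrum.exists_algebraMap_eq_of_pow_card (F := F) ((z : K) ^ (Fintype.card F + 1))
      (by
        have hq : 1 ≤ Fintype.card F := Fintype.card_pos
        have h1 : (Fintype.card F + 1) * Fintype.card F = (Fintype.card F + 1) + (Fintype.card F ^ 2 - 1) := by
          have : 1 ≤ Fintype.card F ^ 2 := Nat.one_le_pow _ _ hq
          rw [sq] at this ⊢
          rw [add_mul, one_mul]
          omega
        rw [← pow_mul, h1, pow_add, ← Units.val_pow_eq_pow_val z (_ - 1), ← hz, pow_orderOf_eq_one,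
          Units.val_one, mul_one])
    refine ⟨c, ?_⟩
    show (Algebra.leftMulMatrix b (z : K)) ^ _ = _
    rw [← map_pow, ← hc, AlgHom.commutes, Algebra.algebraMap_eq_smul_one]
  · obtain ⟨c, hc⟩ := (mk_pow_eq_one_iff u _).1 (pow_orderOf_eq_one (QuotientGroup.mk u : P F))
    generalize orderOf (QuotientGroup.mk u : P F) = k at hc ⊢
    change (Algebra.leftMulMatrix b (z : K)) ^ k = _ at hc
    rw [← map_pow, ← Algebra.algebraMap_eq_smul_one, ← AlgHom.commutes (Algebra.leftMulMatrix b)] at hc
    have hzk := Algebra.leftMulMatrix_injective b hc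
    have hc0 : c ≠ 0 := by
      rintro rfl
      rw [map_zero] at hzk
      exact pow_ne_zero k z.ne_zero hzk
    have : z ^ (k * (Fintype.card F - 1)) = 1 := Units.ext (by
      rw [Units.val_pow_eq_pow_val, pow_mul, hzk, ← map_pow, FiniteField.pow_card_sub_one_eq_one c hc0,
        map_one, Units.val_one])
    have hdvd := orderOf_dvd_of_pow_eq_one this
    rw [hz, show Fintype.card F ^ 2 - 1 = (Fintype.card F + 1) * (Fintype.card F - 1) by
      rw [← Nat.sq_sub_sq, one_pow]] at hdvd
    exact Nat.dvd_of_mul_dvd_mul_right (by have := Fintype.one_lt_card (α := F); omega) hdvd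

theorem exists_char (p : ℕ) [Fact p.Prime] [CharP F p] : ∃ x : P F, orderOf x = p := by
  let u : GeneralLinearGroup (Fin 2) F := GeneralLinearGroup.mkOfDetNeZero !![(1 : F), 1; 0, 1]
    (by simp [Matrix.det_fin_two])
  refine ⟨QuotientGroup.mk u, orderOf_eq_prime ((mk_pow_eq_one_iff u p).2 ⟨1, ?_⟩) ?_⟩
  · have : ∀ k : ℕ, (u : Matrix (Fin 2) (Fin 2) F) ^ k = !![1, (k : F); 0, 1] := by
      intro k
      induction k with
      | zero => simp [Matrix.one_fin_two]
      | succ k ih =>
        rw [pow_succ, ih]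
        show !![(1 : F), (k : F); 0, 1] * !![1, 1; 0, 1] = _
        simp [Matrix.mul_fin_two, add_comm]
    rw [this, CharP.cast_eq_zero, one_smul, Matrix.one_fin_two]
  · intro h
    obtain ⟨c, hc⟩ := (mk_pow_eq_one_iff u 1).1 (by rw [pow_one, h])
    have := congrFun (congrFun hc 0) 1
    simp [u, GeneralLinearGroup.mkOfDetNeZero] at this

/-- The element orders for odd `q`. -/
theorem range_orderOf (p : ℕ) [Fact p.Prime] [CharP F p] (h : Odd (Fintype.card F)) :
    Set.range (orderOf : P F → ℕ) =
      {n | n = p ∨ n ∣ Fintype.card F - 1 ∨ n ∣ Fintype.card F + 1} := by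
  ext n
  constructor
  · rintro ⟨x, rfl⟩
    obtain ⟨g, rfl⟩ := QuotientGroup.mk_surjective x
    rcases pow_cases p h g with h' | h' | h'
    · rcases (Nat.dvd_prime Fact.out).1 (orderOf_dvd_of_pow_eq_one h') with h1 | h1
      · exact Or.inr (Or.inl (by rw [h1]; exact one_dvd _))
      · exact Or.inl h1
    · exact Or.inr (Or.inl (orderOf_dvd_of_pow_eq_one h'))
    · exact Or.inr (Or.inr (orderOf_dvd_of_pow_eq_one h'))
  · have key : ∀ (x : P F) (m : ℕ), orderOf x = m → n ∣ m → n ∈ Set.range (orderOf : P F → ℕ) := by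
      intro x m hx hn
      exact ⟨x ^ (orderOf x / n), orderOf_pow_orderOf_div (orderOf_pos x).ne' (hx ▸ hn)⟩
    rintro (rfl | hn | hn)
    · exact exists_char n
    · obtain ⟨x, hx⟩ := exists_sub_one (F := F); exact key x _ hx hn
    · obtain ⟨x, hx⟩ := exists_add_one (F := F) p; exact key x _ hx hn

end CfsgLib.PGLTwoOrders
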