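import Mathlib.GroupTheory.SemidirectProduct
import Mathlib.GroupTheory.OrderOfElement
import Mathlib.Data.ZMod.Basic
import Mathlib.Algebra.Field.ZMod
import Mathlib.Algebra.BigOperators.Pi
import Mathlib.Algebra.Group.TypeTags.Finite
import Mathlib.Data.Fintype.Sigma
import Mathlib.Data.Fintype.BigOperators
import Mathlib.RingTheory.Coprime.Lemmas
import Mathlib.Algebra.BigOperators.Associated
import Mathlib.Data.Nat.GCD.BigOperators

/-!
Arbitrarily large groups whose set of element orders consists of all proper divisors of a given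
product of distinct primes: a module for a cyclic group in which every generator acts without
fixed points, while every other element has a nonzero fixed vector.
-/

set_option autoImplicit false
set_option linter.style.haveILetI false
set_option linter.unusedSectionVars false

namespace CfsgLib.AlmostAll

variable {ι : Type} [Fintype ι] [DecidableEq ι] (q : ι → ℕ) (p t : ℕ)

/-- Points of the permutation modules. -/
abbrev Pt := Σ i : ι, Fin t × ZMod (q i)

/-- The translation group. -/
abbrev Tor := ∀ i : ι, ZMod (q i)

/-- Functions on the points with zero sum on every regular orbit. -/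
def modV [∀ i, NeZero (q i)] : AddSubgroup (Pt q t → ZMod p) where
  carrier := {f | ∀ i k, ∑ x : ZMod (q i), f ⟨i, k, x⟩ = 0}
  zero_mem' := fun i k => by simp
  add_mem' := fun {f g} hf hg i k => by simp [Finset.sum_add_distrib, hf i k, hg i k]
  neg_mem' := fun {f} hf i k => by simp [hf i k]

variable [∀ i, NeZero (q i)]

/-- Translation of a function. -/
def shift (a : Tor q) (f : modV q p t) : modV q p t :=
  ⟨fun x => f.1 ⟨x.1, x.2.1, x.2.2 - a x.1⟩, fun i k => by
    rw [← f.2 i k]
    exact Fintype.sum_equiv (Equiv.subRight (a i)) _ _ fun x => rfl⟩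

lemma shift_apply (a : Tor q) (f : modV q p t) (i : ι) (k : Fin t) (x : ZMod (q i)) :
    (shift q p t a f).1 ⟨i, k, x⟩ = f.1 ⟨i, k, x - a i⟩ := rfl

/-- The action of the translations. -/
def act : Multiplicative (Tor q) →* MulAut (Multiplicative (modV q p t)) where
  toFun a :=
    { toFun := fun f => Multiplicative.ofAdd (shift q p t a.toAdd f.toAdd)
      invFun := fun f => Multiplicative.ofAdd (shift q p t (-a.toAdd) f.toAdd)
      left_inv := fun f => by
        apply Multiplicative.toAdd.injective; apply Subtype.ext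
        funext ⟨i, k, x⟩; simp [shift_apply]
      right_inv := fun f => by
        apply Multiplicative.toAdd.injective; apply Subtype.ext
        funext ⟨i, k, x⟩; simp [shift_apply]
      map_mul' := fun f g => by
        apply Multiplicative.toAdd.injective; apply Subtype.ext
        funext ⟨i, k, x⟩; simp [shift_apply] }
  map_one' := by
    refine MulEquiv.ext fun f => ?_
    apply Multiplicative.toAdd.injective; apply Subtype.ext
    funext ⟨i, k, x⟩; simp [shift_apply]
  map_mul' a b := by
    refine MulEquiv.ext fun f => ?_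
    apply Multiplicative.toAdd.injective; apply Subtype.ext
    funext ⟨i, k, x⟩; simp [shift_apply, sub_sub]

/-- The group. -/
abbrev Grp := Multiplicative (modV q p t) ⋊[act q p t] Multiplicative (Tor q)

variable {q p t}

lemma orderOf_tor (hq : ∀ i, (q i).Prime) (hinj : Function.Injective q) (a : Tor q) :
    orderOf (Multiplicative.ofAdd a) = ∏ i ∈ Finset.univ.filter (fun i => a i ≠ 0), q i := by
  rw [orderOf_ofAdd_eq_addOrderOf]
  apply Nat.dvd_antisymm
  · refine addOrderOf_dvd_iff_nsmul_eq_zero.2 (funext fun i => ?_)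
    rw [Pi.smul_apply, Pi.zero_apply]
    by_cases h : a i = 0
    · rw [h, smul_zero]
    · have hd : q i ∣ ∏ i ∈ Finset.univ.filter (fun i => a i ≠ 0), q i :=
        Finset.dvd_prod_of_mem q (by simp [h])
      obtain ⟨c, hc⟩ := hd
      rw [hc, mul_smul, nsmul_eq_mul, ZMod.natCast_self, zero_mul]
  · refine Finset.prod_dvd_of_isRelPrime ?_ fun i hi => ?_
    · intro i _ j _ hij
      rw [Function.onFun, ← Nat.coprime_iff_isRelPrime, Nat.coprime_primes (hq i) (hq j)]
      exact fun h => hij (hinj h)
    · have h0 : addOrderOf (a i) ∣ q i :=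
        addOrderOf_dvd_iff_nsmul_eq_zero.2 (by rw [nsmul_eq_mul, ZMod.natCast_self, zero_mul])
      rcases (Nat.dvd_prime (hq i)).1 h0 with h | h
      · exact absurd (AddMonoid.addOrderOf_eq_one_iff.1 h) (Finset.mem_filter.1 hi).2
      · rw [← h]
        refine addOrderOf_dvd_iff_nsmul_eq_zero.2 ?_
        exact congrFun (addOrderOf_nsmul_eq_zero a) i

lemma fixed_eq_zero (hq : ∀ i, (q i).Prime) (hp : ∀ i, ¬ p ∣ q i) [Fact p.Prime] (a : Tor q)
    (ha : ∀ i, a i ≠ 0) (f : modV q p t) (hf : shift q p t a f = f) : f = 0 := by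
  apply Subtype.ext
  funext ⟨i, k, x⟩
  haveI := Fact.mk (hq i)
  have hstep : ∀ y : ZMod (q i), f.1 ⟨i, k, y - a i⟩ = f.1 ⟨i, k, y⟩ := fun y =>
    (shift_apply q p t a f i k y).symm.trans (congrArg (fun g : modV q p t => g.1 ⟨i, k, y⟩) hf)
  have hmult : ∀ (n : ℕ) (y : ZMod (q i)), f.1 ⟨i, k, y - n • a i⟩ = f.1 ⟨i, k, y⟩ := by
    intro n
    induction n with
    | zero => intro y; rw [zero_smul, sub_zero]
    | succ n ih =>
      intro y
      rw [succ_nsmul, ← sub_sub, hstep, ih]
  have hconst : ∀ y : ZMod (q i), f.1 ⟨i, k, y⟩ = f.1 ⟨i, k, x⟩ := by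
    intro y
    have h := hmult ((x - y) / a i).val x
    rw [nsmul_eq_mul, ZMod.natCast_zmod_val, div_mul_cancel₀ _ (ha i), sub_sub_cancel] at h
    exact h
  have hsum := f.2 i k
  rw [Finset.sum_congr rfl (fun y _ => hconst y), Finset.sum_const, Finset.card_univ, ZMod.card,
    nsmul_eq_mul, mul_eq_zero] at hsum
  rcases hsum with h | h
  · rw [ZMod.natCast_eq_zero_iff] at h
    exact absurd h (hp i)
  · simpa using h

/-- The spectrum: exactly the proper divisors. -/
theorem range_orderOf (hq : ∀ i, (q i).Prime) (hinj : Function.Injective q) [hp' : Fact p.Prime]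
    (hp : ∀ i, q i ≠ p) (ht : 0 < t) (S : Set ℕ)
    (hS : ∀ m, m ∈ S ↔ m ∣ p * (∏ i, q i) ∧ m ≠ p * ∏ i, q i) :
    Set.range (orderOf : Grp q p t → ℕ) = S := by
  classical
  have hpq : ∀ i, ¬ p ∣ q i := fun i h => hp i ((Nat.prime_dvd_prime_iff_eq hp'.out (hq i)).1 h).symm
  have hsub : ∀ s : Finset ι, (∏ i ∈ s, q i) ∣ ∏ i, q i := fun s =>
    Finset.prod_dvd_prod_of_subset _ _ _ (Finset.subset_univ s)
  have hpcop : ∀ s : Finset ι, Nat.Coprime p (∏ i ∈ s, q i) := fun s =>
    Nat.Coprime.prod_right fun i _ => (Nat.Prime.coprime_iff_not_dvd hp'.out).2 (hpq i)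
  have hexp : ∀ f : Multiplicative (modV q p t), f ^ p = 1 := fun f => by
    apply Multiplicative.toAdd.injective; apply Subtype.ext
    funext x
    simp [nsmul_eq_mul, ZMod.natCast_self]
  ext m
  rw [hS]
  constructor
  · rintro ⟨g, rfl⟩
    have hgr : (SemidirectProduct.rightHom (φ := act q p t)) g = g.right := rfl
    set d := orderOf g.right with hd
    have hd1 := orderOf_tor hq hinj g.right.toAdd
    rw [ofAdd_toAdd] at hd1
    have hr : (g ^ d).right = 1 := by
      show SemidirectProduct.rightHom (g ^ d) = 1
      rw [map_pow, hgr, hd, pow_orderOf_eq_one]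
    have hgd : g ^ d = SemidirectProduct.inl (g ^ d).left := SemidirectProduct.ext rfl (by simp [hr])
    have hord : orderOf g ∣ d * p := by
      apply orderOf_dvd_of_pow_eq_one
      rw [pow_mul, hgd, ← map_pow, hexp, map_one]
    have hdvd : d ∣ ∏ i, q i := by rw [hd, hd1]; exact hsub _
    refine ⟨hord.trans (by rw [mul_comm]; exact mul_dvd_mul_left p hdvd), fun hfull => ?_⟩
    by_cases hall : ∀ i, g.right.toAdd i ≠ 0
    · -- the vector part of `g ^ d` is fixed by `g.right`, hence zero
      have hcomm : g * g ^ d = g ^ d * g := (Commute.self_pow g d).eq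
      rw [hgd] at hcomm
      have hfix := congrArg SemidirectProduct.left hcomm
      simp only [SemidirectProduct.mul_left, SemidirectProduct.left_inl, SemidirectProduct.right_inl,
        map_one, MulAut.one_apply] at hfix
      rw [mul_comm, mul_left_inj] at hfix
      have h0 : (g ^ d).left.toAdd = 0 :=
        fixed_eq_zero hq hpq _ hall _ (congrArg Multiplicative.toAdd hfix)
      have hone : g ^ d = 1 := by
        rw [hgd, show (g ^ d).left = 1 from Multiplicative.toAdd.injective h0, map_one]
      have hle : orderOf g ∣ ∏ i, q i := (orderOf_dvd_of_pow_eq_one hone).trans hdvd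
      rw [hfull] at hle
      have hpd : p ∣ ∏ i, q i := dvd_of_mul_right_dvd hle
      exact hp'.out.ne_one (Nat.Coprime.eq_one_of_dvd (hpcop Finset.univ) hpd)
    · push Not at hall
      obtain ⟨i, hi⟩ := hall
      have hqi : q i ∣ d * p :=
        (dvd_mul_of_dvd_right (Finset.dvd_prod_of_mem q (Finset.mem_univ i)) p).trans (hfull ▸ hord)
      rcases (hq i).dvd_mul.1 hqi with h | h
      · rw [hd, hd1] at h
        obtain ⟨j, hj, hjd⟩ := ((hq i).prime.dvd_finsetProd_iff _).1 h
        have := hinj ((Nat.prime_dvd_prime_iff_eq (hq i) (hq j)).1 hjd)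
        subst this
        exact (Finset.mem_filter.1 hj).2 hi
      · exact hp i ((Nat.prime_dvd_prime_iff_eq (hq i) hp'.out).1 h)
  · rintro ⟨hm, hne⟩
    obtain ⟨m1, m2, hm1, hm2, rfl⟩ := Nat.dvd_mul.1 hm
    let s : Finset ι := Finset.univ.filter fun i => q i ∣ m2
    have hm2s : m2 = ∏ i ∈ s, q i := by
      apply Nat.dvd_antisymm
      · have hsplit : ∏ i, q i = (∏ i ∈ s, q i) * ∏ i ∈ sᶜ, q i := (Finset.prod_mul_prod_compl s q).symm
        refine Nat.Coprime.dvd_of_dvd_mul_right ?_ (hsplit ▸ hm2)
        refine Nat.Coprime.prod_right fun i hi => Nat.Coprime.symm ((hq i).coprime_iff_not_dvd.2 ?_)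
        simpa [s] using hi
      · refine Finset.prod_dvd_of_isRelPrime ?_ fun i hi => (Finset.mem_filter.1 hi).2
        intro i _ j _ hij
        rw [Function.onFun, ← Nat.coprime_iff_isRelPrime, Nat.coprime_primes (hq i) (hq j)]
        exact fun h => hij (hinj h)
    let a : Tor q := fun i => if i ∈ s then 1 else 0
    have hfilter : (Finset.univ.filter fun i => a i ≠ 0) = s := by
      ext i
      haveI := Fact.mk (hq i)
      by_cases hi : i ∈ s <;> simp [a, hi]
    have hoa : orderOf (SemidirectProduct.inr (φ := act q p t) (Multiplicative.ofAdd a)) = m2 := by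
      rw [orderOf_injective _ SemidirectProduct.inr_injective, orderOf_tor hq hinj, hfilter, hm2s]
    rcases (Nat.dvd_prime hp'.out).1 hm1 with h | h
    · exact ⟨_, by rw [hoa, h, one_mul]⟩
    · subst h
      obtain ⟨i0, hi0⟩ : ∃ i, i ∉ s := by
        by_contra h
        push Not at h
        exact hne (by rw [hm2s, Finset.eq_univ_of_forall h])
      haveI := Fact.mk (hq i0)
      let k0 : Fin t := ⟨0, ht⟩
      let raw : Pt q t → ZMod m1 := fun x =>
        (if x = ⟨i0, k0, 0⟩ then (1 : ZMod m1) else 0) - (if x = ⟨i0, k0, 1⟩ then (1 : ZMod m1) else 0)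
      let f : modV q m1 t := ⟨raw, fun i k => by
        simp only [raw, Finset.sum_sub_distrib]
        by_cases h : i = i0
        · subst h
          by_cases hk : k = k0
          · subst hk; simp
          · simp [hk]
        · simp [h]⟩
      have hf : (Multiplicative.ofAdd f) ≠ 1 := by
        intro h
        have h' := congrArg (fun g : Multiplicative (modV q m1 t) => g.toAdd.1 ⟨i0, k0, 0⟩) h
        simp [f, raw, zero_ne_one' (ZMod (q i0))] at h'
      have hof : orderOf (SemidirectProduct.inl (φ := act q m1 t) (Multiplicative.ofAdd f)) = m1 := by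
        rw [orderOf_injective _ SemidirectProduct.inl_injective]
        exact orderOf_eq_prime (hexp _) hf
      have hcomm : Commute (SemidirectProduct.inl (φ := act q m1 t) (Multiplicative.ofAdd f))
          (SemidirectProduct.inr (Multiplicative.ofAdd a)) := by
        have hfix : act q m1 t (Multiplicative.ofAdd a) (Multiplicative.ofAdd f) = Multiplicative.ofAdd f := by
          apply Multiplicative.toAdd.injective; apply Subtype.ext
          funext ⟨i, k, x⟩
          show raw ⟨i, k, x - a i⟩ = raw ⟨i, k, x⟩
          by_cases h : i = i0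
          · subst h; simp [a, hi0]
          · simp [raw, h]
        refine SemidirectProduct.ext ?_ ?_ <;> simp [hfix]
      refine ⟨_, hcomm.orderOf_mul_eq_mul_orderOf_of_coprime ?_ |>.trans ?_⟩
      · rw [hof, hoa, hm2s]; exact hpcop s
      · rw [hof, hoa]

lemma card_ge [Fact p.Prime] (i : ι) (hi : 2 ≤ q i) : p ^ t ≤ Nat.card (Grp q p t) := by
  classical
  let e : (Fin t → ZMod p) → Grp q p t := fun c =>
    SemidirectProduct.inl (Multiplicative.ofAdd
      (⟨fun x => if x.1 = i then (if x.2.2.val = 0 then c x.2.1 else if x.2.2.val = 1 then - c x.2.1 else 0)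
        else 0, fun j k => by
        by_cases h : j = i
        · subst h
          simp only [if_true]
          haveI : Fact (1 < q j) := ⟨hi⟩
          rw [Finset.sum_eq_add (a := (0 : ZMod (q j))) (b := (1 : ZMod (q j))) zero_ne_one]
          · simp [ZMod.val_one]
          · intro x _ hx
            have h0 : x.val ≠ 0 := fun h => hx.1 (by rwa [ZMod.val_eq_zero] at h)
            have h1 : x.val ≠ 1 := fun h => hx.2 (ZMod.val_injective _ (by rw [h, ZMod.val_one]))
            simp [h0, h1]
          · intro h; exact absurd (Finset.mem_univ _) h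
          · intro h; exact absurd (Finset.mem_univ _) h
        · simp [h]⟩ : modV q p t))
  have he : Function.Injective e := by
    intro c c' h
    funext k
    have h' := congrArg (fun g : Grp q p t => g.left.toAdd.1 ⟨i, k, 0⟩) h
    simpa [e] using h'
  haveI : Finite (Grp q p t) :=
    Finite.of_injective (fun g : Grp q p t => (g.left, g.right))
      (fun x y h => SemidirectProduct.ext (congrArg Prod.fst h) (congrArg Prod.snd h))
  have := Nat.card_le_card_of_injective e he
  simpa [Nat.card_eq_fintype_card] using this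

instance instFiniteGrp [Fact p.Prime] : Finite (Grp q p t) :=
  Finite.of_injective (fun g : Grp q p t => (g.left, g.right))
    (fun x y h => SemidirectProduct.ext (congrArg Prod.fst h) (congrArg Prod.snd h))

end CfsgLib.AlmostAll
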