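import Cfsg.Agent.Lib.PSpFourSpec.Natural
import Mathlib.Logic.Small.Basic

/-!
`R × R × (V^k ⋊ (2 × L₂(q)))` has the spectrum of `R × R × R` for a small Ree group `R` over `q = 3^(odd)` elements.
-/

set_option autoImplicit false

namespace CfsgLib.ReeCube

open Polynomial Matrix Kronecker CfsgLib.PSpFourSpec

/-- The pieces which the third factor carries. -/
def pieces (q : ℕ) : Finset ℕ := {6, 9, q - 1, (q + 1) / 2}

/-- The product combination. -/
theorem range_triple {R X : Type*} [Group R] [Group X] [Finite R] [Finite X] (P : Finset ℕ) (A B : ℕ)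
    (hR : ∀ d, (∃ g : R, orderOf g = d) ↔ (∃ M ∈ P, d ∣ M) ∨ d ∣ A ∨ d ∣ B)
    (hX : ∀ d, (∃ g : X, orderOf g = d) ↔ ∃ M ∈ P, d ∣ M) :
    Set.range (orderOf : R × R × X → ℕ) = Set.range (orderOf : R × R × R → ℕ) := by
  ext n
  constructor
  · rintro ⟨⟨a, b, x⟩, rfl⟩
    obtain ⟨c, hc⟩ := (hR (orderOf x)).2 (Or.inl ((hX _).1 ⟨x, rfl⟩))
    exact ⟨⟨a, b, c⟩, by simp only [Prod.orderOf, hc]⟩
  · rintro ⟨⟨a, b, c⟩, rfl⟩
    simp only [Prod.orderOf]
    have mkX : ∀ u v w : R, (∃ M ∈ P, orderOf w ∣ M) →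
        Nat.lcm (orderOf u) (Nat.lcm (orderOf v) (orderOf w)) ∈ Set.range (orderOf : R × R × X → ℕ) :=
      fun u v w hw => by
        obtain ⟨x, hx⟩ := (hX _).2 hw
        exact ⟨(u, v, x), by simp only [Prod.orderOf, hx]⟩
    rcases (hR _).1 ⟨c, rfl⟩ with hc | hc
    · exact mkX a b c hc
    rcases (hR _).1 ⟨b, rfl⟩ with hb | hb
    · rw [Nat.lcm_comm (orderOf b)]
      exact mkX a c b hb
    rcases (hR _).1 ⟨a, rfl⟩ with ha | ha
    · rw [Nat.lcm_comm (orderOf a), Nat.lcm_assoc]
      exact mkX b c a ha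
    have merge : ∀ u v w : R, (orderOf u ∣ A ∧ orderOf v ∣ A) ∨ (orderOf u ∣ B ∧ orderOf v ∣ B) →
        Nat.lcm (orderOf u) (Nat.lcm (orderOf v) (orderOf w)) ∈ Set.range (orderOf : R × R × X → ℕ) := by
      intro u v w h
      obtain ⟨y, hy⟩ : ∃ y : R, orderOf y = Nat.lcm (orderOf u) (orderOf v) := by
        refine (hR _).2 (Or.inr ?_)
        exact h.imp (fun h => Nat.lcm_dvd h.1 h.2) (fun h => Nat.lcm_dvd h.1 h.2)
      refine ⟨(y, w, 1), ?_⟩
      simp only [Prod.orderOf, orderOf_one, Nat.lcm_one_right, hy, Nat.lcm_assoc]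
    have perm1 : Nat.lcm (orderOf a) (Nat.lcm (orderOf b) (orderOf c)) =
        Nat.lcm (orderOf a) (Nat.lcm (orderOf c) (orderOf b)) := by rw [Nat.lcm_comm (orderOf b)]
    have perm2 : Nat.lcm (orderOf a) (Nat.lcm (orderOf b) (orderOf c)) =
        Nat.lcm (orderOf b) (Nat.lcm (orderOf c) (orderOf a)) := by
      rw [← Nat.lcm_assoc (orderOf b), Nat.lcm_comm]
    rcases ha with ha | ha <;> rcases hb with hb | hb <;> rcases hc with hc | hc
    · exact merge a b c (Or.inl ⟨ha, hb⟩)
    · exact merge a b c (Or.inl ⟨ha, hb⟩)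
    · rw [perm1]; exact merge a c b (Or.inl ⟨ha, hc⟩)
    · rw [perm2]; exact merge b c a (Or.inr ⟨hb, hc⟩)
    · rw [perm2]; exact merge b c a (Or.inl ⟨hb, hc⟩)
    · rw [perm1]; exact merge a c b (Or.inr ⟨ha, hc⟩)
    · exact merge a b c (Or.inr ⟨ha, hb⟩)
    · exact merge a b c (Or.inr ⟨ha, hb⟩)

variable {K : Type} [Field K] [CharP K 3] [Fact (Nat.Prime 3)]

/-- `±` the twisted tensor. -/
def sgnM : ℤˣ × SpecialLinearGroup (Fin 2) K →* Matrix (Fin 2 × Fin 2) (Fin 2 × Fin 2) K where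
  toFun z := (((z.1 : ℤ) : K)) • natM 3 1 z.2
  map_one' := by simp
  map_mul' y z := by
    simp only [Prod.fst_mul, Prod.snd_mul, Units.val_mul, Int.cast_mul, map_mul, smul_mul_smul_comm]

/-- The automorphisms. -/
noncomputable def act : ℤˣ × SpecialLinearGroup (Fin 2) K →* (Module.End K (Fin 2 × Fin 2 → K))ˣ := toAut sgnM

theorem act_eq_one {z : ℤˣ × SpecialLinearGroup (Fin 2) K} :
    act z = 1 ↔ ((z.1 : ℤ) : K) • natM 3 1 z.2 = 1 := toAut_eq_one _ _

theorem eps_sq (e : ℤˣ) : ((e : ℤ) : K) * ((e : ℤ) : K) = 1 := by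
  rcases Int.units_eq_one_or e with rfl | rfl <;> simp

theorem natM_pow_scalar {x : SpecialLinearGroup (Fin 2) K} {n : ℕ} {c : K} (hc : c = 1 ∨ c = -1)
    (h : (x : Matrix (Fin 2) (Fin 2) K) ^ n = c • 1) : natM 3 1 x ^ n = 1 := by
  rw [← map_pow]
  exact natM_scalar 3 1 hc ((Matrix.SpecialLinearGroup.coe_pow x n).trans h)

theorem act_pow_of_scalar (e : ℤˣ) {x : SpecialLinearGroup (Fin 2) K} {n : ℕ} {c : K} (hc : c = 1 ∨ c = -1)
    (h : (x : Matrix (Fin 2) (Fin 2) K) ^ n = c • 1) (he : e ^ n = 1) : act (e, x) ^ n = 1 := by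
  rw [← map_pow, act_eq_one, Prod.pow_mk, map_pow]
  simp only [he, natM_pow_scalar hc h, Units.val_one, Int.cast_one, one_smul]

theorem units_pow_even (e : ℤˣ) {n : ℕ} (hn : Even n) : e ^ n = 1 := by
  obtain ⟨k, rfl⟩ := hn
  rw [pow_add, ← mul_pow, Int.units_mul_self, one_pow]

variable [Fintype K]

/-- The case analysis for one element. -/
theorem cases_act {q j : ℕ} (hK : Fintype.card K = q) (hqp : ∃ k, q = 3 ^ k) (hj : q = 8 * j + 3) (e : ℤˣ)
    (x : SpecialLinearGroup (Fin 2) K) :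
    (act (e, x) ^ 6 = 1 ∧ (e = 1 → act (e, x) ^ 3 = 1) ∧
        (e ≠ 1 → (act (e, x) : Module.End K (Fin 2 × Fin 2 → K)) ^ 3 = -1)) ∨
      ((act (e, x) ^ (q - 1) = 1 ∨ act (e, x) ^ ((q + 1) / 2) = 1) ∧
        ((∃ v : Fin 2 × Fin 2 → K, v ≠ 0 ∧ act (e, x) • v = v) → act (e, x) ^ 2 = 1)) := by
  obtain ⟨k, hk⟩ := hqp
  let L := AlgebraicClosure K
  haveI : CharP L 3 := charP_of_injective_algebraMap (algebraMap K L).injective 3
  by_cases hu : ∃ c : K, (c = 1 ∨ c = -1) ∧ ((x : Matrix (Fin 2) (Fin 2) K) - c • 1) ^ 2 = 0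
  · left
    obtain ⟨c, hc, h⟩ := hu
    have h2 := pow_char_pow_eq 3 (k := 1) (by norm_num) h
    rw [pow_one] at h2
    have hc3 : c ^ 3 = 1 ∨ c ^ 3 = -1 := by
      rcases hc with rfl | rfl
      exacts [Or.inl (one_pow _), neg_one_pow_eq_or K _]
    refine ⟨?_, fun he => act_pow_of_scalar e hc3 h2 (by rw [he, one_pow]), fun he => ?_⟩
    · refine act_pow_of_scalar e (c := 1) (Or.inl rfl) ?_ (units_pow_even e ⟨3, rfl⟩)
      rw [show 6 = 3 * 2 by norm_num, pow_mul, h2, _root_.smul_pow, one_pow]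
      congr 1
      rcases hc3 with h | h <;> rw [h] <;> simp
    · rw [← Units.val_pow_eq_pow_val, ← map_pow, act, coe_toAut, Prod.pow_mk]
      show Matrix.toLinAlgEquiv' ((((e ^ 3 : ℤˣ) : ℤ) : K) • natM 3 1 (x ^ 3)) = -1
      rw [map_pow (natM (K := K) 3 1), natM_pow_scalar hc3 h2, (Int.units_eq_one_or e).resolve_left he]
      norm_num
  right
  obtain ⟨l, hl0, hls⟩ := quad_root (algebraMap K L (x : Matrix (Fin 2) (Fin 2) K).trace)
  have hch : (x : Matrix (Fin 2) (Fin 2) K).charpoly.map (algebraMap K L) = (X - C l) * (X - C l⁻¹) := by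
    rw [charpoly_two, ← quad_eq hl0 hls]; simp
  have hne : l ≠ l⁻¹ := fun hll => by
    have h1 : l ^ 2 = 1 := by rw [sq]; nth_rw 1 [hll]; exact inv_mul_cancel₀ hl0
    obtain ⟨c, hc, hlc⟩ : ∃ c : K, (c = 1 ∨ c = -1) ∧ algebraMap K L c = l := by
      rcases sq_eq_one_iff.1 h1 with h2 | h2
      · exact ⟨1, Or.inl rfl, by rw [map_one, h2]⟩
      · exact ⟨-1, Or.inr rfl, by rw [map_neg, map_one, h2]⟩
    refine hu ⟨c, hc, ?_⟩
    have := sub_pow_eq_zero (L := L) (x : Matrix (Fin 2) (Fin 2) K) (n := 1) (a := 2) (c := c)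
      (by rw [hch, ← hll, hlc, pow_one, sq])
    simpa using this
  have hl : aeval l (x : Matrix (Fin 2) (Fin 2) K).charpoly = 0 := by
    rw [aeval_def, ← eval_map, hch]; simp
  have hdvd : ∀ H, (l ^ H) ^ 2 = 1 → ∃ c : K, (c = 1 ∨ c = -1) ∧ (x : Matrix (Fin 2) (Fin 2) K) ^ H = c • 1 := by
    intro H h
    rcases sq_eq_one_iff.1 h with h | h
    · exact ⟨1, Or.inl rfl, pow_eq_of_dvd (L := L) _ (by
        rw [hch, map_one]
        exact X_sub_C_mul_dvd hne (X_sub_C_dvd_of_pow h) (X_sub_C_dvd_of_pow (by rw [inv_pow, h, inv_one])))⟩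
    · exact ⟨-1, Or.inr rfl, pow_eq_of_dvd (L := L) _ (by
        rw [hch, map_neg, map_one]
        exact X_sub_C_mul_dvd hne (X_sub_C_dvd_of_pow h)
          (X_sub_C_dvd_of_pow (by rw [inv_pow, h, inv_neg, inv_one])))⟩
  have hfix : (l + l⁻¹) ^ q = l + l⁻¹ := by rw [hls, ← map_pow, ← hK, FiniteField.pow_card]
  have hor := pow_sub_or_pow_add 3 hl0 rfl hk hfix
  refine ⟨?_, ?_⟩
  · rcases hor with h | h
    · left
      obtain ⟨c, hc, h'⟩ := hdvd (q - 1) (by rw [h, one_pow])
      exact act_pow_of_scalar e hc h' (units_pow_even e ⟨4 * j + 1, by omega⟩)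
    · right
      obtain ⟨c, hc, h'⟩ := hdvd ((q + 1) / 2) (by
        rw [← pow_mul, show (q + 1) / 2 * 2 = q + 1 by omega, h])
      exact act_pow_of_scalar e hc h' (units_pow_even e ⟨2 * j + 1, by omega⟩)
  · rintro ⟨v, hv, hgv⟩
    rw [act, toAut_smul] at hgv
    obtain ⟨P, hP, hP'⟩ := isDiag_natM 3 1 x hl hne
    have hd : IsDiag ((sgnM (e, x)).map (algebraMap K L))
        (fun i => ((e : ℤ) : L) * (![l, l⁻¹] i.1 * ![l, l⁻¹] i.2 ^ 3 ^ 1)) := by
      refine ⟨P, hP, ?_⟩
      show ((((e : ℤ) : K)) • natM 3 1 x).map (algebraMap K L) * P = _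
      rw [Matrix.map_smul' _ _ _ (map_mul _), map_intCast, smul_mul_assoc, hP', ← mul_smul_comm,
        ← Matrix.diagonal_smul]
      rfl
    obtain ⟨⟨a, b⟩, hij⟩ := hd.exists_eq_one (v := fun i => algebraMap K L (v i))
      (fun h0 => hv (funext fun i => (algebraMap K L).injective (by
        rw [Pi.zero_apply, map_zero]; exact congrFun h0 i)))
      (funext fun i => by
        have := congrArg (algebraMap K L) (congrFun hgv i)
        rw [RingHom.map_mulVec] at this
        exact this)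
    have he2 : ((e : ℤ) : L) ^ 2 = 1 := by
      rcases Int.units_eq_one_or e with rfl | rfl <;> simp
    have hw : (![l, l⁻¹] a * ![l, l⁻¹] b ^ 3 ^ 1) ^ 2 = 1 := by
      have := congrArg (· ^ 2) hij
      simpa [mul_pow, he2] using this
    have h8 : l ^ 8 = 1 := by
      fin_cases a <;> fin_cases b <;>
        simp only [Fin.zero_eta, Fin.mk_one, Fin.isValue, Matrix.cons_val_zero, Matrix.cons_val_one, inv_pow,
          pow_one] at hw
      · linear_combination hw
      · rw [pow_succ' l 2, mul_inv, mul_inv_cancel_left₀ hl0, inv_pow, inv_eq_one, ← pow_mul] at hw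
        rw [show (8 : ℕ) = 2 * 2 * 2 from rfl, pow_mul, hw, one_pow]
      · rw [pow_succ' l 2, inv_mul_cancel_left₀ hl0, ← pow_mul] at hw
        rw [show (8 : ℕ) = 2 * 2 * 2 from rfl, pow_mul, hw, one_pow]
      · rw [← mul_inv, inv_pow, inv_eq_one, ← pow_succ', ← pow_mul] at hw
        exact hw
    have h4 : (l ^ 2) ^ 2 = 1 := by
      rw [← pow_mul]
      refine orderOf_dvd_iff_pow_eq_one.1 ?_
      have h1 := orderOf_dvd_of_pow_eq_one h8
      rcases hor with h | h
      · exact (Nat.dvd_gcd h1 (orderOf_dvd_of_pow_eq_one h)).trans (by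
          rw [show q - 1 = 2 + 8 * j by omega, Nat.gcd_add_mul_left_right]; norm_num)
      · exact (Nat.dvd_gcd h1 (orderOf_dvd_of_pow_eq_one h)).trans (by
          rw [show q + 1 = 4 + 8 * j by omega, Nat.gcd_add_mul_left_right]; norm_num)
    obtain ⟨c, hc, h'⟩ := hdvd 2 h4
    exact act_pow_of_scalar e hc h' (units_pow_even e ⟨1, rfl⟩)

/-- The spectrum of the third factor. -/
theorem witness {q j : ℕ} (hK : Fintype.card K = q) (hqp : ∃ k, q = 3 ^ k) (hj : q = 8 * j + 3) (hq : 27 ≤ q)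
    (N : ℕ) :
    ∃ (H : Type) (_ : Group H) (_ : Fintype H), N < Fintype.card H ∧
      Set.range (orderOf : H → ℕ) = {d | ∃ M ∈ pieces q, d ∣ M} := by
  refine exists_big (X := (act (K := K)).range) (W := Fin 2 × Fin 2 → K) Nat.prime_three (fun w => ?_)
    (w := Pi.single (0, 0) 1) (by simp) _ (fun g => ?_) (fun g w hw => ?_) (fun M hM => ?_) N
  · rw [← Nat.cast_smul_eq_nsmul K, CharP.cast_eq_zero K 3, zero_smul]
  · obtain ⟨g, ⟨e, x⟩, rfl⟩ := g
    rw [← Subgroup.orderOf_coe]
    rcases cases_act hK hqp hj e x with ⟨h, -, -⟩ | ⟨h, -⟩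
    · exact ⟨6, by simp [pieces], orderOf_dvd_of_pow_eq_one h⟩
    · rcases h with h | h
      · exact ⟨q - 1, by simp [pieces], orderOf_dvd_of_pow_eq_one h⟩
      · exact ⟨(q + 1) / 2, by simp [pieces], orderOf_dvd_of_pow_eq_one h⟩
  · obtain ⟨g, ⟨e, x⟩, rfl⟩ := g
    rw [← Subgroup.orderOf_coe]
    rcases cases_act hK hqp hj e x with ⟨h, h1, hneg⟩ | ⟨-, h⟩
    · have hd := orderOf_dvd_of_pow_eq_one h
      rcases eq_or_ne e 1 with he | he
      · exact ⟨9, by simp [pieces], Nat.mul_dvd_mul_left 3 (orderOf_dvd_of_pow_eq_one (h1 he))⟩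
      · by_cases h2 : orderOf (act (e, x)) ∣ 2
        · exact ⟨6, by simp [pieces], Nat.mul_dvd_mul_left 3 h2⟩
        by_cases h3 : orderOf (act (e, x)) ∣ 3
        · exact ⟨9, by simp [pieces], Nat.mul_dvd_mul_left 3 h3⟩
        refine absurd ?_ hw
        have h6 : orderOf (act (e, x)) = 6 := by
          have := Nat.le_of_dvd (by norm_num) hd
          interval_cases hg : orderOf (act (e, x)) <;> omega
        rw [ModuleExt.nm, ← Subgroup.orderOf_coe, h6, show (6 : ℕ) = 3 + 3 from rfl, Finset.sum_range_add,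
          ← Finset.sum_add_distrib]
        refine Finset.sum_eq_zero fun i _ => ?_
        have hval : ∀ v : Fin 2 × Fin 2 → K,
            (⟨act (e, x), ⟨(e, x), rfl⟩⟩ : (act (K := K)).range) ^ 3 • v = -v := fun v => by
          rw [Subgroup.smul_def, SubgroupClass.coe_pow, Units.smul_def, Units.val_pow_eq_pow_val, hneg he]
          rfl
        rw [pow_add, mul_smul, hval, add_neg_cancel]
    · exact ⟨6, by simp [pieces], Nat.mul_dvd_mul_left 3
        (orderOf_dvd_of_pow_eq_one (h ⟨_, hw, smul_nm (⟨act (e, x), (e, x), rfl⟩ : (act (K := K)).range) w⟩))⟩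
  · let u : SpecialLinearGroup (Fin 2) K := ⟨!![1, 1; 0, 1], by simp [Matrix.det_fin_two_of]⟩
    have e3 : (3 : K) = 0 := CharP.cast_eq_zero K 3
    have hcoe : ∀ i : ℕ, ((u ^ i : SpecialLinearGroup (Fin 2) K) : Matrix (Fin 2) (Fin 2) K) =
        !![1, (i : K); 0, 1] := by
      intro i
      induction i with
      | zero => ext a b; fin_cases a <;> fin_cases b <;> simp
      | succ i ih =>
        rw [pow_succ]
        refine ((u ^ i).coe_mul u).trans ?_
        rw [ih]
        ext a b; fin_cases a <;> fin_cases b <;> simp [u, add_comm]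
    have val : ∀ (e : ℤˣ) (i : ℕ), ((act (e, u) ^ i) • (Pi.single (1, 1) 1 : Fin 2 × Fin 2 → K)) (0, 0) =
        (((e ^ i : ℤˣ) : ℤ) : K) * ((i : K) * (i : K) ^ 3) := by
      intro e i
      rw [← map_pow, act, toAut_smul, Matrix.mulVec_single_one, Prod.pow_mk]
      show ((((e ^ i : ℤˣ) : ℤ) : K) • natM 3 1 (u ^ i)) (0, 0) (1, 1) = _
      rw [Matrix.smul_apply, smul_eq_mul]
      congr 1
      show ((u ^ i : SpecialLinearGroup (Fin 2) K) : Matrix (Fin 2) (Fin 2) K) 0 1 *
        (iterateFrobenius K 3 1) (((u ^ i : SpecialLinearGroup (Fin 2) K) : Matrix (Fin 2) (Fin 2) K) 0 1) = _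
      rw [hcoe]
      simp only [Matrix.of_apply, Matrix.cons_val_zero, Matrix.cons_val_one, Matrix.cons_val', iterateFrobenius_def,
        frobenius_def, pow_one]
    have hu6 : ∀ e : ℤˣ, act (e, u) ^ 6 = 1 := fun e =>
      act_pow_of_scalar e (c := 1) (Or.inl rfl) (by
        rw [← Matrix.SpecialLinearGroup.coe_pow, hcoe, one_smul]
        have : (6 : K) = 0 := by linear_combination (2 : K) * e3
        ext a b; fin_cases a <;> fin_cases b <;> simp [this]) (units_pow_even e ⟨3, rfl⟩)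
    have hne2 : ∀ e : ℤˣ, act (e, u) ^ 2 ≠ 1 := fun e h => by
      have := val e 2
      rw [h, one_smul, units_pow_even e ⟨1, rfl⟩] at this
      simp [show ((2 : K) * 2 ^ 3) = 1 by linear_combination (5 : K) * e3] at this
    simp only [pieces, Finset.mem_insert, Finset.mem_singleton] at hM
    rcases hM with rfl | rfl | rfl | rfl
    · refine Or.inl ⟨⟨act (-1, u), (-1, u), rfl⟩, dvd_of_eq ?_⟩
      rw [← Subgroup.orderOf_coe]
      have hd := orderOf_dvd_of_pow_eq_one (hu6 (-1))
      have h2 : ¬ orderOf (act ((-1 : ℤˣ), u)) ∣ 2 := fun h => hne2 _ (orderOf_dvd_iff_pow_eq_one.1 h)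
      have h3 : ¬ orderOf (act ((-1 : ℤˣ), u)) ∣ 3 := fun h => by
        have := orderOf_dvd_iff_pow_eq_one.1 h
        rw [← map_pow, act_eq_one, Prod.pow_mk] at this
        have h4 := congrFun (congrFun this (1, 1)) (1, 1)
        rw [Matrix.smul_apply, smul_eq_mul] at h4
        have h5 : natM 3 1 (u ^ 3) (1, 1) (1, 1) = 1 := by
          show ((u ^ 3 : SpecialLinearGroup (Fin 2) K) : Matrix (Fin 2) (Fin 2) K) 1 1 *
            (iterateFrobenius K 3 1) (((u ^ 3 : SpecialLinearGroup (Fin 2) K) : Matrix (Fin 2) (Fin 2) K) 1 1) = _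
          rw [hcoe]; simp
        simp only [Prod.fst, Prod.snd, h5, mul_one, Matrix.one_apply_eq] at h4
        norm_num at h4
        have : (1 : K) = 0 := by linear_combination e3 + h4
        exact one_ne_zero this
      have := Nat.le_of_dvd (by norm_num) hd
      interval_cases hg : orderOf (act ((-1 : ℤˣ), u)) <;> omega
    · refine Or.inr ⟨⟨act (1, u), (1, u), rfl⟩, ⟨Pi.single (1, 1) 1, fun h0 => ?_⟩, ?_⟩
      · have hu3 : orderOf (act ((1 : ℤˣ), u)) = 3 := by
          refine orderOf_eq_prime ?_ fun h => hne2 1 (by rw [h, one_pow])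
          exact act_pow_of_scalar 1 (c := 1) (Or.inl rfl) (by
            rw [← Matrix.SpecialLinearGroup.coe_pow, hcoe, one_smul]
            ext a b; fin_cases a <;> fin_cases b <;> simp [e3]) (one_pow _)
        have h2 := congrFun h0 (0, 0)
        rw [ModuleExt.nm, ← Subgroup.orderOf_coe, hu3, Finset.sum_apply] at h2
        simp only [Finset.sum_range_succ, Finset.sum_range_zero, Subgroup.smul_def, SubgroupClass.coe_pow,
          zero_add, val, one_pow, Units.val_one, Int.cast_one, one_mul, Pi.zero_apply] at h2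
        norm_num at h2
        have e2 : (2 : K) = 0 := by linear_combination h2 - 5 * e3
        exact one_ne_zero (by linear_combination e3 - e2 : (1 : K) = 0)
      · rw [← Subgroup.orderOf_coe]
        have h3 : 3 ∣ orderOf (act ((1 : ℤˣ), u)) := by
          refine dvd_of_eq (orderOf_eq_prime ?_ fun h => hne2 1 (by rw [h, one_pow])).symm
          exact act_pow_of_scalar 1 (c := 1) (Or.inl rfl) (by
            rw [← Matrix.SpecialLinearGroup.coe_pow, hcoe, one_smul]
            ext a b; fin_cases a <;> fin_cases b <;> simp [e3]) (one_pow _)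
        exact Nat.mul_dvd_mul_left 3 h3
    · -- `q - 1`
      obtain ⟨x, l, hlo, hl⟩ := exists_sl2_eigen (K := K) 3 (T := q - 1) (Or.inl (by rw [hK]))
      have hne : l ≠ l⁻¹ := fun h => by
        have hl0 : l ≠ 0 := by rintro rfl; rw [orderOf_zero] at hlo; omega
        have h2 : l ^ 2 = 1 := by rw [sq]; nth_rw 1 [h]; exact inv_mul_cancel₀ hl0
        have := Nat.le_of_dvd two_pos (orderOf_dvd_of_pow_eq_one h2)
        omega
      refine Or.inl ⟨⟨act (-1, x), (-1, x), rfl⟩, ?_⟩
      rw [← Subgroup.orderOf_coe]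
      set n := orderOf (act ((-1 : ℤˣ), x)) with hn
      have h1 := pow_orderOf_eq_one (act ((-1 : ℤˣ), x))
      rw [← hn, ← map_pow, act_eq_one, Prod.pow_mk] at h1
      simp only [map_pow] at h1
      rcases Nat.even_or_odd n with hev | hodd
      · rw [units_pow_even _ hev, Units.val_one, Int.cast_one, one_smul] at h1
        have h2 : rho 3 1 x ^ n = 1 := by rw [← map_pow, rho, toAut_eq_one, map_pow]; exact h1
        have h3 := hlo ▸ orderOf_dvd_of_pow_eq_one (two_mul_pow_eq_one 3 1 hl hne h2)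
        obtain ⟨k, hk⟩ := hev
        have h4 : 4 * j + 1 ∣ k := by
          refine (Nat.Coprime.dvd_of_dvd_mul_left (k := 4 * j + 1) (m := 2) ?_ ?_)
          · rw [Nat.coprime_two_right]; exact ⟨2 * j, by ring⟩
          · refine (Nat.mul_dvd_mul_iff_left two_pos).1 ?_
            rw [show 2 * (4 * j + 1) = q - 1 by omega, show 2 * (2 * k) = 2 * n by omega]
            exact h3
        rw [hk, ← two_mul, show q - 1 = 2 * (4 * j + 1) by omega]
        exact Nat.mul_dvd_mul_left 2 h4
      · exfalso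
        rw [show ((-1 : ℤˣ) ^ n) = -1 from hodd.neg_one_pow] at h1
        have h2 : natM 3 1 x ^ n = -1 := by
          have := congrArg (fun A => (-1 : K) • A) h1
          simpa using this
        obtain ⟨P, hP, hP'⟩ := isDiag_natM 3 1 x hl hne
        have hL : ((natM 3 1 x).map (algebraMap K (AlgebraicClosure K))) ^ (2 * n) = 1 := by
          have := congrArg (fun A => (algebraMap K (AlgebraicClosure K)).mapMatrix A) h2
          simp only [map_pow, map_neg, map_one] at this
          rw [mul_comm, pow_mul]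
          rw [show ((algebraMap K (AlgebraicClosure K)).mapMatrix (natM 3 1 x)) = (natM 3 1 x).map (algebraMap K (AlgebraicClosure K)) from rfl] at this
          rw [this]; simp
        have hd : ∀ i, _ := fun i => IsDiag.pow_eq_one ⟨P, hP, hP'⟩ hL i
        have a := hd (0, 0)
        have b := hd (0, 1)
        simp only [Matrix.cons_val_zero, Matrix.cons_val_one, inv_pow, pow_one] at a b
        have hl0 : l ≠ 0 := by rintro rfl; exact hne (_root_.inv_zero).symm
        have hab : l ^ (4 * n) = 1 := by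
          have := congrArg₂ (· * ·) a b
          rw [one_mul] at this
          rw [← this, ← mul_pow, show 4 * n = 2 * (2 * n) by ring, pow_mul]
          congr 1
          field_simp
        have hA : natM 3 1 x ^ n = 1 := by
          obtain ⟨t, ht⟩ := hodd
          have hd1 : (q - 1) / 2 ∣ n := by
            have h5 := hlo ▸ orderOf_dvd_of_pow_eq_one hab
            rw [show q - 1 = 2 * (4 * j + 1) by omega, Nat.mul_div_cancel_left _ two_pos]
            refine Nat.Coprime.dvd_of_dvd_mul_left (m := 4) ?_ ((dvd_mul_left _ 2).trans (show 2 * (4 * j + 1) ∣ 4 * n by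
              rw [show q - 1 = 2 * (4 * j + 1) by omega] at h5; exact h5))
            exact (Nat.coprime_two_right.2 ⟨2 * j, by ring⟩).pow_right 2
          obtain ⟨r, hr⟩ := hd1
          obtain ⟨c, hc, hxH⟩ : ∃ c : K, (c = 1 ∨ c = -1) ∧
              (x : Matrix (Fin 2) (Fin 2) K) ^ ((q - 1) / 2) = c • 1 := by
            have hh : (l ^ ((q - 1) / 2)) ^ 2 = 1 := by
              rw [← pow_mul, show (q - 1) / 2 * 2 = q - 1 by omega, ← hlo, pow_orderOf_eq_one]
            let L := AlgebraicClosure K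
            have hl' := hl
            rw [charpoly_two] at hl'
            simp only [map_add, map_sub, map_mul, map_pow, aeval_X, aeval_C, map_one] at hl'
            have hls : l + l⁻¹ = algebraMap K L (x : Matrix (Fin 2) (Fin 2) K).trace := by
              field_simp
              linear_combination hl'
            have hch : (x : Matrix (Fin 2) (Fin 2) K).charpoly.map (algebraMap K L) = (X - C l) * (X - C l⁻¹) := by
              rw [charpoly_two, ← quad_eq hl0 hls]; simp
            rcases sq_eq_one_iff.1 hh with h | h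
            · exact ⟨1, Or.inl rfl, pow_eq_of_dvd (L := L) _ (by
                rw [hch, map_one]
                exact X_sub_C_mul_dvd hne (X_sub_C_dvd_of_pow h)
                  (X_sub_C_dvd_of_pow (by rw [inv_pow, h, inv_one])))⟩
            · exact ⟨-1, Or.inr rfl, pow_eq_of_dvd (L := L) _ (by
                rw [hch, map_neg, map_one]
                exact X_sub_C_mul_dvd hne (X_sub_C_dvd_of_pow h)
                  (X_sub_C_dvd_of_pow (by rw [inv_pow, h, inv_neg, inv_one])))⟩
          rw [hr, pow_mul, natM_pow_scalar hc hxH, one_pow]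
        rw [hA] at h2
        have := congrFun (congrFun h2 (0, 0)) (0, 0)
        simp at this
        have : (1 : K) = 0 := by linear_combination e3 - this
        exact one_ne_zero this
    · -- `(q + 1) / 2`
      obtain ⟨x, l, hlo, hl⟩ := exists_sl2_eigen (K := K) 3 (T := q + 1) (Or.inr (by rw [hK]))
      have hne : l ≠ l⁻¹ := fun h => by
        have hl0 : l ≠ 0 := by rintro rfl; rw [orderOf_zero] at hlo; omega
        have h2 : l ^ 2 = 1 := by rw [sq]; nth_rw 1 [h]; exact inv_mul_cancel₀ hl0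
        have := Nat.le_of_dvd two_pos (orderOf_dvd_of_pow_eq_one h2)
        omega
      refine Or.inl ⟨⟨act (1, x), (1, x), rfl⟩, ?_⟩
      rw [← Subgroup.orderOf_coe]
      set n := orderOf (act ((1 : ℤˣ), x)) with hn
      have h1 := pow_orderOf_eq_one (act ((1 : ℤˣ), x))
      rw [← hn, ← map_pow, act_eq_one, Prod.pow_mk, one_pow] at h1
      simp only [map_pow, Units.val_one, Int.cast_one, one_smul] at h1
      have h2 : rho 3 1 x ^ n = 1 := by rw [← map_pow, rho, toAut_eq_one, map_pow]; exact h1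
      have h3 := hlo ▸ orderOf_dvd_of_pow_eq_one (two_mul_pow_eq_one 3 1 hl hne h2)
      rw [show q + 1 = 2 * ((q + 1) / 2) by omega] at h3
      exact (Nat.mul_dvd_mul_iff_left two_pos).1 h3

/-- The statement, from the spectrum of the Ree group. -/
theorem exists_cube {R : Type*} [Group R] [Finite R] (m : ℕ) (hm : 1 ≤ m) (A B : ℕ)
    (hR : ∀ d, (∃ g : R, orderOf g = d) ↔
      (d ∣ 6 ∨ d ∣ 9 ∨ d ∣ 3 ^ (2 * m + 1) - 1 ∨ d ∣ (3 ^ (2 * m + 1) + 1) / 2 ∨ d ∣ A ∨ d ∣ B)) (N : ℕ) :
    ∃ (H : Type) (_ : Group H) (_ : Fintype H), N < Fintype.card H ∧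
      Set.range (orderOf : H → ℕ) = Set.range (orderOf : R × R × R → ℕ) := by
  set q := 3 ^ (2 * m + 1) with hq
  have h27 : 27 ≤ q := le_trans (by norm_num) (Nat.pow_le_pow_right (by norm_num : 0 < 3) (show 3 ≤ 2 * m + 1 by omega))
  obtain ⟨j, hj⟩ : ∃ j, q = 8 * j + 3 := by
    have : q % 8 = 3 := by rw [hq, pow_succ, pow_mul, Nat.mul_mod, Nat.pow_mod]; norm_num
    exact ⟨q / 8, by omega⟩
  haveI : Fact (Nat.Prime 3) := ⟨Nat.prime_three⟩
  let K0 := GaloisField 3 (2 * m + 1)
  haveI : Fintype K0 := Fintype.ofFinite K0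
  have hK : Fintype.card K0 = q := by
    rw [← Nat.card_eq_fintype_card, GaloisField.card 3 (2 * m + 1) (by omega)]
  obtain ⟨X, _, hFX, hN, hX⟩ := witness (K := K0) hK ⟨_, hq⟩ hj h27 N
  letI : Group (Shrink.{0} R) := (equivShrink.{0} R).symm.group
  let e : R ≃* Shrink.{0} R :=
    { toEquiv := equivShrink.{0} R
      map_mul' := fun x y => by
        show equivShrink.{0} R (x * y) = equivShrink.{0} R ((equivShrink.{0} R).symm (equivShrink.{0} R x) * (equivShrink.{0} R).symm (equivShrink.{0} R y))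
        rw [Equiv.symm_apply_apply, Equiv.symm_apply_apply] }
  haveI : Finite (Shrink.{0} R) := Finite.of_equiv R (equivShrink.{0} R)
  have hrange : Set.range (orderOf : Shrink.{0} R × Shrink.{0} R × X → ℕ) =
      Set.range (orderOf : R × R × X → ℕ) := by
    ext n
    constructor
    · rintro ⟨⟨a, b, x⟩, rfl⟩
      exact ⟨(e.symm a, e.symm b, x), by simp only [Prod.orderOf, MulEquiv.orderOf_eq]⟩
    · rintro ⟨⟨a, b, x⟩, rfl⟩
      exact ⟨(e a, e b, x), by simp only [Prod.orderOf, MulEquiv.orderOf_eq]⟩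
  refine ⟨Shrink.{0} R × Shrink.{0} R × X, inferInstance, Fintype.ofFinite _, ?_, ?_⟩
  · rw [← @Nat.card_eq_fintype_card _ (Fintype.ofFinite _), Nat.card_prod, Nat.card_prod,
      Nat.card_eq_fintype_card (α := X), ← mul_assoc]
    exact lt_of_lt_of_le hN (Nat.le_mul_of_pos_left _ (Nat.mul_pos Nat.card_pos Nat.card_pos))
  · rw [hrange]
    refine range_triple (pieces q) A B (fun d => ?_) (fun d => ?_)
    · rw [hR]
      simp [pieces, or_assoc]
    · exact Set.ext_iff.1 hX d

end CfsgLib.ReeCube
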