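import Cfsg.Agent.Lib.AlmostAll.ModuleExt
import Mathlib.Data.ZMod.Basic

/-!
Small groups acting without fixed points: orders 3, 4 and 40.
-/

set_option autoImplicit false

namespace CfsgLib.SmallFrobenius

/-- module over two elements -/
abbrev W2 : Type := ZMod 2 × ZMod 2

/-- module over three elements of rank two -/
abbrev W3 : Type := ZMod 3 × ZMod 3

/-- module over three elements of rank four -/
abbrev W81 : Type := ZMod 3 × ZMod 3 × ZMod 3 × ZMod 3

/-- order three -/
abbrev C3 : Type := Multiplicative (ZMod 3)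

/-- order four -/
abbrev C4 : Type := Multiplicative (ZMod 4)

/-- step of order three -/
def rot3 (v : W2) : W2 := (v.2, v.1 + v.2)

/-- step of order four -/
def rot4 (v : W3) : W3 := (-v.2, v.1)

instance : DistribMulAction C3 W2 where
  smul g v := rot3^[g.toAdd.val] v
  one_smul := by decide +kernel
  mul_smul := by decide +kernel
  smul_zero := by decide +kernel
  smul_add := by decide +kernel

instance : DistribMulAction C4 W3 where
  smul g v := rot4^[g.toAdd.val] v
  one_smul := by decide +kernel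
  mul_smul := by decide +kernel
  smul_zero := by decide +kernel
  smul_add := by decide +kernel

/-- step of order five -/
def stA (v : W81) : W81 := (-v.2.2.2, v.1 - v.2.2.2, v.2.1 - v.2.2.2, v.2.2.1 - v.2.2.2)

/-- step of order eight -/
def stB (v : W81) : W81 :=
  (v.2.1 + v.2.2.1, 2 * v.2.1 + v.2.2.1 + v.2.2.2, v.1 + v.2.2.1 + 2 * v.2.2.2, 2 * v.1 + 2 * v.2.2.1)

/-- the group of order forty -/
structure X40 where
  a : ZMod 5
  i : ZMod 8
deriving DecidableEq

/-- as pairs -/
def X40.equivProd : X40 ≃ ZMod 5 × ZMod 8 where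
  toFun g := (g.a, g.i)
  invFun v := ⟨v.1, v.2⟩
  left_inv _ := rfl
  right_inv _ := rfl

instance : Fintype X40 := Fintype.ofEquiv _ X40.equivProd.symm

/-- product -/
def X40.mul (g h : X40) : X40 := ⟨g.a + 3 ^ g.i.val * h.a, g.i + h.i⟩

/-- inverse -/
def X40.inv (g : X40) : X40 := ⟨-(3 ^ (-g.i).val * g.a), -g.i⟩

instance : Group X40 where
  mul := X40.mul
  one := ⟨0, 0⟩
  inv := X40.inv
  mul_assoc := by decide +kernel
  one_mul := by decide +kernel
  mul_one := by decide +kernel
  inv_mul_cancel := by decide +kernel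

instance : DistribMulAction X40 W81 where
  smul g v := stA^[g.a.val] (stB^[g.i.val] v)
  one_smul := by decide +kernel
  mul_smul g h v := by
    have hA : ∀ (a b : ZMod 5) (w : W81), stA^[(a + b).val] w = stA^[a.val] (stA^[b.val] w) := by decide +kernel
    have hB : ∀ (a b : ZMod 8) (w : W81), stB^[(a + b).val] w = stB^[a.val] (stB^[b.val] w) := by decide +kernel
    have hAB : ∀ (i : ZMod 8) (b : ZMod 5) (w : W81),
        stA^[(3 ^ i.val * b).val] (stB^[i.val] w) = stB^[i.val] (stA^[b.val] w) := by decide +kernel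
    show stA^[(g.a + 3 ^ g.i.val * h.a).val] (stB^[(g.i + h.i).val] v) =
      stA^[g.a.val] (stB^[g.i.val] (stA^[h.a.val] (stB^[h.i.val] v)))
    rw [hA, hB, hAB]
  smul_zero := by decide +kernel
  smul_add g := by
    have hA : ∀ (v w : W81), stA (v + w) = stA v + stA w := by decide +kernel
    have hB : ∀ (v w : W81), stB (v + w) = stB v + stB w := by decide +kernel
    have key : ∀ (f : W81 → W81), (∀ v w, f (v + w) = f v + f w) → ∀ (n : ℕ) (v w : W81),
        f^[n] (v + w) = f^[n] v + f^[n] w := by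
      intro f hf n
      induction n with
      | zero => intro v w; rfl
      | succ n ih => intro v w; simp [Function.iterate_succ_apply, hf, ih]
    intro v w
    show stA^[g.a.val] (stB^[g.i.val] (v + w)) = stA^[g.a.val] (stB^[g.i.val] v) + stA^[g.a.val] (stB^[g.i.val] w)
    rw [key stB hB, key stA hA]

/-- certificate for orders and vanishing norms -/
def Cert (X W : Type) [Monoid X] [AddCommMonoid W] [SMul X W] (L : List ℕ) : Prop :=
  ∀ g : X, ∃ n ∈ L, 0 < n ∧ g ^ n = 1 ∧ (∀ m ∈ List.range n, 0 < m → g ^ m ≠ 1) ∧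
    (g = 1 ∨ ∀ w : W, ((List.range n).map fun j => g ^ j • w).sum = 0)

variable {X W : Type} [Group X] [Finite X] [AddCommGroup W] [DistribMulAction X W] [Finite W]

theorem range_of_cert {L : List ℕ} (hc : Cert X W L) {r : ℕ} (hr : r.Prime) (hW : ∀ w : W, r • w = 0)
    {w₀ : W} (hw : w₀ ≠ 0) (hL : ∀ n ∈ L, ∃ g : X, 0 < n ∧ g ^ n = 1 ∧ ∀ m ∈ List.range n, 0 < m → g ^ m ≠ 1)
    {k : ℕ} (hk : 0 < k) :
    Set.range (orderOf : ModuleExt.Ext X W k → ℕ) = {n | n ∈ r :: L} := by
  rw [ModuleExt.range_orderOf hr hW hk]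
  have hord : ∀ (g : X) (n : ℕ), 0 < n → g ^ n = 1 → (∀ m ∈ List.range n, 0 < m → g ^ m ≠ 1) → orderOf g = n :=
    fun g n h0 h1 h2 => (orderOf_eq_iff h0).2 ⟨h1, fun m hm hm0 => h2 m (List.mem_range.2 hm) hm0⟩
  ext n
  constructor
  · rintro (⟨g, rfl⟩ | ⟨g, ⟨w, hne⟩, rfl⟩)
    · obtain ⟨n, hn, h0, h1, h2, -⟩ := hc g
      rw [hord g n h0 h1 h2]
      exact List.mem_cons_of_mem _ hn
    · obtain ⟨n, hn, h0, h1, h2, h3⟩ := hc g
      rcases h3 with rfl | h3
      · rw [orderOf_one, mul_one]; exact List.mem_cons_self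
      · refine absurd ?_ hne
        rw [ModuleExt.nm, hord g n h0 h1 h2]
        exact h3 w
  · intro h
    rcases List.mem_cons.1 h with rfl | h
    · exact Or.inr ⟨1, ⟨w₀, by rw [ModuleExt.nm_of_one]; exact hw⟩, by rw [orderOf_one, mul_one]⟩
    · obtain ⟨g, h0, h1, h2⟩ := hL n h
      exact Or.inl ⟨g, hord g n h0 h1 h2⟩

theorem cert3 : Cert C3 W2 [1, 3] := by unfold Cert; decide +kernel

theorem cert4 : Cert C4 W3 [1, 2, 4] := by unfold Cert; decide +kernel

theorem cert40 : Cert X40 W81 [1, 2, 4, 5, 8, 10] := by unfold Cert; decide +kernel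

theorem range3 {k : ℕ} (hk : 0 < k) :
    Set.range (orderOf : ModuleExt.Ext C3 W2 k → ℕ) = {n | n ∈ [2, 1, 3]} :=
  range_of_cert cert3 Nat.prime_two (by decide +kernel) (w₀ := (1, 0)) (by decide) (by decide +kernel) hk

theorem range4 {k : ℕ} (hk : 0 < k) :
    Set.range (orderOf : ModuleExt.Ext C4 W3 k → ℕ) = {n | n ∈ [3, 1, 2, 4]} :=
  range_of_cert cert4 Nat.prime_three (by decide +kernel) (w₀ := (1, 0)) (by decide) (by decide +kernel) hk

theorem range40 {k : ℕ} (hk : 0 < k) :
    Set.range (orderOf : ModuleExt.Ext X40 W81 k → ℕ) = {n | n ∈ [3, 1, 2, 4, 5, 8, 10]} :=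
  range_of_cert cert40 Nat.prime_three (by decide +kernel) (w₀ := (1, 0, 0, 0)) (by decide) (by decide +kernel) hk

end CfsgLib.SmallFrobenius
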