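import Mathlib.LinearAlgebra.Matrix.GeneralLinearGroup.Defs
import Mathlib.Data.ZMod.Basic
import Mathlib.GroupTheory.OrderOfElement
import Mathlib.Algebra.Group.Subgroup.Basic
import Mathlib.Tactic

/-!
The double cover of S5 with quaternion Sylow 2-subgroups acting without fixed points on a
four-dimensional space over the field of seven elements.
-/

set_option autoImplicit false

namespace CfsgLib.TwoS5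

open Matrix

/-- coded row -/
abbrev R4 : Type := ℕ × ℕ × ℕ × ℕ

/-- coded matrix -/
abbrev M4 : Type := R4 × R4 × R4 × R4

/-- row times matrix -/
def rowMul (r : R4) (B : M4) : R4 :=
  ((r.1 * B.1.1 + r.2.1 * B.2.1.1 + r.2.2.1 * B.2.2.1.1 + r.2.2.2 * B.2.2.2.1) % 7,
   (r.1 * B.1.2.1 + r.2.1 * B.2.1.2.1 + r.2.2.1 * B.2.2.1.2.1 + r.2.2.2 * B.2.2.2.2.1) % 7,
   (r.1 * B.1.2.2.1 + r.2.1 * B.2.1.2.2.1 + r.2.2.1 * B.2.2.1.2.2.1 + r.2.2.2 * B.2.2.2.2.2.1) % 7,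
   (r.1 * B.1.2.2.2 + r.2.1 * B.2.1.2.2.2 + r.2.2.1 * B.2.2.1.2.2.2 + r.2.2.2 * B.2.2.2.2.2.2) % 7)

/-- product -/
def mul (A B : M4) : M4 := (rowMul A.1 B, rowMul A.2.1 B, rowMul A.2.2.1 B, rowMul A.2.2.2 B)

/-- row sum -/
def rowAdd (r s : R4) : R4 :=
  ((r.1 + s.1) % 7, (r.2.1 + s.2.1) % 7, (r.2.2.1 + s.2.2.1) % 7, (r.2.2.2 + s.2.2.2) % 7)

/-- sum -/
def add (A B : M4) : M4 :=
  (rowAdd A.1 B.1, rowAdd A.2.1 B.2.1, rowAdd A.2.2.1 B.2.2.1, rowAdd A.2.2.2 B.2.2.2)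

/-- identity -/
def one : M4 := ((1, 0, 0, 0), (0, 1, 0, 0), (0, 0, 1, 0), (0, 0, 0, 1))

/-- zero -/
def zero : M4 := ((0, 0, 0, 0), (0, 0, 0, 0), (0, 0, 0, 0), (0, 0, 0, 0))

/-- minus identity -/
def negOne : M4 := ((6, 0, 0, 0), (0, 6, 0, 0), (0, 0, 6, 0), (0, 0, 0, 6))

/-- decoded row -/
def toR (r : R4) : Fin 4 → ZMod 7 := ![(r.1 : ZMod 7), r.2.1, r.2.2.1, r.2.2.2]

/-- decoded matrix -/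
def toM (A : M4) : Matrix (Fin 4) (Fin 4) (ZMod 7) :=
  Matrix.of ![toR A.1, toR A.2.1, toR A.2.2.1, toR A.2.2.2]

theorem toM_mul (A B : M4) : toM (mul A B) = toM A * toM B := by
  ext i j
  fin_cases i <;> fin_cases j <;>
    simp [toM, toR, mul, rowMul, Matrix.mul_apply, Fin.sum_univ_four, ZMod.natCast_mod]

theorem toM_add (A B : M4) : toM (add A B) = toM A + toM B := by
  ext i j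
  fin_cases i <;> fin_cases j <;> simp [toM, toR, add, rowAdd, ZMod.natCast_mod]

theorem toM_one : toM one = 1 := by
  ext i j
  fin_cases i <;> fin_cases j <;> rfl

theorem toM_zero : toM zero = 0 := by
  ext i j
  fin_cases i <;> fin_cases j <;> rfl

theorem toM_negOne : toM negOne = -1 := by
  ext i j
  fin_cases i <;> fin_cases j <;> rfl

/-- coding of a matrix -/
def frM (M : Matrix (Fin 4) (Fin 4) (ZMod 7)) : M4 :=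
  (((M 0 0).val, (M 0 1).val, (M 0 2).val, (M 0 3).val),
   ((M 1 0).val, (M 1 1).val, (M 1 2).val, (M 1 3).val),
   ((M 2 0).val, (M 2 1).val, (M 2 2).val, (M 2 3).val),
   ((M 3 0).val, (M 3 1).val, (M 3 2).val, (M 3 3).val))

theorem frM_toM_mul (A B : M4) : frM (toM (mul A B)) = mul A B := by
  have v : ∀ n : ℕ, ((n % 7 : ℕ) : ZMod 7).val = n % 7 := fun n =>
    ZMod.val_natCast_of_lt (Nat.mod_lt n (by norm_num))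
  simp [frM, toM, toR, mul, rowMul, v, -ZMod.natCast_mod]

theorem frM_toM_one : frM (toM one) = one := by decide +kernel

/-- first generator -/
def gA : M4 := ((4, 2, 6, 5), (5, 4, 2, 6), (5, 1, 2, 5), (6, 5, 2, 2))

/-- second generator -/
def gB : M4 := ((6, 1, 4, 2), (1, 1, 2, 3), (2, 5, 2, 6), (5, 5, 6, 5))

/-- the elements with order and products by the generators -/
def tbl : List (M4 × ℕ × ℕ × ℕ) := [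
  (((1, 0, 0, 0), (0, 1, 0, 0), (0, 0, 1, 0), (0, 0, 0, 1)), 1, 1, 2),
  (((4, 2, 6, 5), (5, 4, 2, 6), (5, 1, 2, 5), (6, 5, 2, 2)), 3, 3, 4),
  (((6, 1, 4, 2), (1, 1, 2, 3), (2, 5, 2, 6), (5, 5, 6, 5)), 12, 5, 6),
  (((2, 5, 1, 2), (2, 2, 5, 1), (2, 6, 4, 2), (1, 2, 5, 4)), 3, 0, 7),
  (((5, 2, 1, 4), (2, 2, 4, 6), (2, 0, 3, 6), (0, 5, 6, 4)), 12, 8, 9),
  (((0, 5, 6, 5), (5, 0, 5, 1), (4, 6, 0, 1), (6, 3, 1, 0)), 12, 10, 11),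
  (((6, 2, 4, 0), (5, 6, 0, 4), (2, 5, 2, 5), (2, 2, 2, 2)), 6, 12, 13),
  (((3, 4, 2, 1), (4, 4, 1, 5), (3, 2, 2, 2), (2, 4, 2, 5)), 8, 14, 15),
  (((1, 2, 4, 0), (2, 6, 0, 3), (3, 2, 3, 2), (2, 4, 2, 4)), 8, 16, 17),
  (((5, 3, 6, 6), (4, 5, 1, 6), (3, 2, 1, 4), (5, 3, 3, 1)), 3, 18, 19),
  (((1, 1, 4, 0), (1, 6, 0, 3), (1, 3, 5, 0), (3, 6, 0, 2)), 8, 2, 20),
  (((5, 4, 1, 0), (3, 5, 0, 1), (6, 5, 1, 3), (2, 6, 4, 1)), 3, 21, 22),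
  (((0, 4, 3, 6), (3, 0, 1, 3), (0, 1, 6, 3), (6, 0, 4, 6)), 3, 23, 24),
  (((4, 0, 1, 0), (0, 3, 0, 6), (4, 0, 3, 0), (0, 3, 0, 4)), 4, 25, 26),
  (((6, 0, 4, 2), (0, 1, 2, 3), (0, 6, 4, 4), (6, 0, 4, 3)), 12, 27, 28),
  (((3, 2, 4, 1), (5, 3, 6, 4), (2, 0, 4, 5), (0, 2, 2, 4)), 4, 29, 30),
  (((1, 3, 2, 3), (3, 6, 3, 5), (2, 5, 1, 6), (5, 5, 6, 6)), 12, 4, 31),
  (((3, 6, 5, 5), (1, 3, 2, 5), (2, 6, 5, 1), (1, 2, 6, 5)), 6, 32, 33),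
  (((1, 0, 5, 2), (0, 1, 5, 5), (4, 4, 6, 0), (3, 4, 0, 6)), 4, 34, 35),
  (((0, 2, 5, 4), (2, 0, 4, 2), (3, 4, 2, 0), (4, 4, 0, 5)), 8, 36, 23),
  (((3, 1, 2, 0), (6, 3, 0, 2), (6, 4, 4, 6), (3, 6, 1, 4)), 4, 37, 38),
  (((2, 2, 2, 4), (5, 2, 3, 2), (1, 2, 6, 5), (5, 1, 2, 6)), 6, 39, 40),
  (((5, 5, 4, 1), (5, 2, 1, 3), (0, 2, 0, 3), (2, 0, 3, 0)), 8, 41, 42),
  (((1, 1, 0, 1), (6, 1, 6, 0), (5, 1, 6, 6), (6, 5, 1, 6)), 4, 6, 43),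
  (((1, 0, 2, 0), (0, 6, 0, 5), (2, 3, 5, 6), (3, 5, 6, 2)), 8, 44, 45),
  (((5, 0, 1, 4), (0, 2, 4, 6), (0, 4, 4, 5), (4, 0, 5, 3)), 8, 46, 47),
  (((5, 2, 4, 0), (5, 5, 0, 4), (2, 5, 1, 5), (2, 2, 2, 1)), 3, 15, 48),
  (((5, 3, 1, 4), (3, 2, 4, 6), (4, 6, 1, 1), (6, 3, 1, 6)), 12, 7, 37),
  (((6, 4, 1, 2), (3, 6, 5, 1), (6, 3, 1, 3), (4, 6, 4, 1)), 4, 49, 50),
  (((6, 3, 6, 6), (4, 6, 1, 6), (3, 2, 2, 4), (5, 3, 3, 2)), 6, 26, 51),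
  (((3, 5, 1, 3), (5, 4, 3, 6), (0, 3, 2, 0), (3, 0, 0, 5)), 8, 52, 34),
  (((6, 5, 3, 3), (2, 6, 4, 3), (2, 6, 1, 2), (1, 2, 5, 1)), 4, 20, 53),
  (((3, 6, 0, 5), (1, 3, 2, 0), (4, 6, 4, 1), (1, 4, 6, 4)), 4, 54, 55),
  (((1, 4, 1, 0), (4, 6, 0, 6), (0, 2, 3, 4), (2, 0, 4, 4)), 8, 56, 57),
  (((1, 4, 3, 6), (3, 1, 1, 3), (0, 1, 0, 3), (6, 0, 4, 0)), 6, 9, 58),
  (((0, 4, 3, 1), (4, 0, 1, 4), (0, 2, 5, 2), (2, 0, 2, 2)), 8, 59, 60),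
  (((0, 3, 5, 3), (3, 0, 3, 2), (0, 3, 5, 5), (3, 0, 5, 2)), 8, 61, 62),
  (((5, 1, 2, 4), (6, 5, 3, 2), (6, 4, 2, 6), (3, 6, 1, 2)), 4, 31, 63),
  (((5, 2, 2, 6), (2, 2, 6, 5), (3, 5, 4, 4), (5, 4, 4, 3)), 8, 64, 65),
  (((0, 1, 4, 3), (6, 0, 4, 4), (0, 0, 0, 6), (0, 0, 1, 0)), 4, 11, 66),
  (((3, 3, 1, 2), (3, 4, 2, 6), (5, 3, 1, 1), (3, 2, 1, 6)), 8, 67, 68),
  (((5, 1, 5, 0), (1, 2, 0, 2), (5, 3, 1, 0), (3, 2, 0, 6)), 8, 69, 70),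
  (((4, 5, 3, 0), (2, 4, 0, 3), (5, 3, 3, 2), (4, 5, 5, 3)), 4, 71, 46),
  (((2, 0, 4, 0), (0, 5, 0, 3), (1, 4, 6, 1), (4, 6, 1, 1)), 8, 53, 72),
  (((3, 6, 5, 0), (6, 4, 0, 2), (3, 2, 1, 6), (2, 4, 6, 6)), 8, 73, 74),
  (((6, 0, 2, 5), (0, 6, 2, 2), (3, 3, 1, 0), (4, 3, 0, 1)), 4, 75, 76),
  (((5, 0, 5, 3), (0, 2, 3, 2), (3, 3, 0, 2), (3, 4, 2, 0)), 8, 13, 77),
  (((3, 4, 1, 0), (3, 3, 0, 1), (6, 4, 4, 3), (3, 6, 4, 4)), 4, 78, 79),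
  (((5, 6, 4, 5), (6, 2, 5, 3), (2, 2, 1, 1), (2, 5, 1, 6)), 12, 38, 80),
  (((2, 6, 5, 5), (1, 2, 2, 5), (2, 6, 4, 1), (1, 2, 6, 4)), 3, 81, 82),
  (((1, 5, 2, 6), (5, 6, 6, 5), (0, 3, 4, 0), (3, 0, 0, 3)), 12, 83, 84),
  (((6, 3, 2, 6), (3, 1, 6, 5), (5, 2, 4, 6), (2, 2, 6, 3)), 12, 85, 86),
  (((2, 4, 1, 0), (4, 5, 0, 6), (0, 0, 5, 4), (0, 0, 4, 2)), 4, 87, 88),
  (((6, 1, 1, 3), (1, 1, 3, 6), (4, 1, 2, 3), (1, 3, 3, 5)), 12, 66, 89),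
  (((1, 2, 2, 4), (5, 1, 3, 2), (1, 2, 5, 5), (5, 1, 2, 5)), 3, 17, 90),
  (((2, 1, 2, 0), (1, 5, 0, 5), (4, 0, 5, 1), (0, 3, 1, 2)), 4, 91, 92),
  (((1, 5, 0, 0), (5, 6, 0, 0), (5, 2, 3, 6), (2, 2, 6, 4)), 12, 93, 94),
  (((0, 3, 5, 2), (4, 0, 5, 5), (6, 0, 4, 6), (0, 6, 1, 4)), 10, 95, 61),
  (((0, 1, 6, 2), (1, 0, 2, 1), (4, 1, 0, 5), (1, 3, 5, 0)), 12, 63, 96),
  (((4, 0, 5, 6), (0, 3, 6, 2), (0, 3, 1, 2), (3, 0, 2, 6)), 12, 97, 98),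
  (((1, 4, 1, 1), (3, 1, 6, 1), (4, 5, 5, 3), (2, 4, 4, 5)), 3, 99, 100),
  (((0, 2, 4, 0), (2, 0, 0, 3), (4, 0, 0, 2), (0, 3, 2, 0)), 4, 19, 101),
  (((2, 2, 0, 2), (5, 2, 5, 0), (5, 5, 2, 3), (2, 5, 4, 2)), 10, 102, 103),
  (((3, 4, 4, 5), (4, 4, 5, 3), (0, 1, 1, 0), (1, 0, 0, 6)), 12, 90, 104),
  (((4, 6, 1, 3), (6, 3, 3, 6), (2, 0, 2, 2), (0, 5, 2, 5)), 12, 48, 105),
  (((5, 0, 0, 0), (0, 5, 0, 0), (0, 6, 3, 0), (1, 0, 0, 3)), 6, 106, 69),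
  (((6, 6, 2, 4), (6, 1, 4, 5), (2, 2, 6, 3), (2, 5, 3, 1)), 12, 43, 107),
  (((0, 6, 5, 0), (6, 0, 0, 2), (1, 0, 0, 6), (0, 6, 6, 0)), 4, 108, 32),
  (((5, 3, 0, 6), (4, 5, 1, 0), (0, 2, 6, 2), (5, 0, 5, 6)), 10, 109, 110),
  (((4, 1, 5, 6), (1, 3, 6, 2), (2, 2, 6, 4), (2, 5, 4, 1)), 12, 22, 111),
  (((1, 3, 6, 0), (4, 1, 0, 6), (1, 2, 5, 4), (5, 1, 3, 5)), 3, 112, 113),
  (((0, 1, 6, 5), (6, 0, 2, 6), (3, 4, 4, 1), (3, 3, 6, 4)), 10, 114, 115),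
  (((3, 5, 1, 2), (2, 3, 5, 1), (2, 6, 5, 2), (1, 2, 5, 5)), 6, 96, 116),
  (((3, 1, 0, 0), (1, 4, 0, 0), (2, 2, 1, 2), (2, 5, 2, 6)), 12, 24, 117),
  (((5, 0, 4, 3), (0, 5, 4, 4), (5, 4, 6, 2), (3, 5, 5, 6)), 10, 118, 119),
  (((6, 3, 4, 1), (4, 6, 6, 4), (0, 6, 0, 4), (1, 0, 3, 0)), 3, 120, 121),
  (((0, 3, 4, 6), (3, 0, 6, 3), (0, 5, 2, 5), (5, 0, 5, 5)), 8, 122, 29),
  (((6, 1, 2, 0), (6, 6, 0, 2), (6, 5, 2, 6), (2, 6, 1, 2)), 6, 107, 123),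
  (((6, 6, 6, 5), (1, 6, 2, 6), (3, 5, 5, 6), (2, 3, 1, 5)), 10, 124, 125),
  (((2, 6, 2, 0), (6, 5, 0, 5), (2, 4, 6, 0), (4, 5, 0, 1)), 8, 126, 81),
  (((6, 0, 0, 0), (0, 6, 0, 0), (0, 0, 6, 0), (0, 0, 0, 6)), 2, 72, 127),
  (((6, 4, 1, 0), (3, 6, 0, 1), (6, 5, 2, 3), (2, 6, 4, 2)), 6, 28, 64),
  (((2, 3, 4, 5), (3, 5, 5, 3), (5, 4, 1, 5), (4, 2, 5, 6)), 8, 128, 129),
  (((1, 1, 2, 0), (1, 6, 0, 5), (4, 2, 3, 1), (2, 3, 1, 4)), 8, 130, 131),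
  (((3, 6, 6, 5), (1, 3, 2, 6), (3, 4, 0, 6), (3, 3, 1, 0)), 5, 132, 87),
  (((0, 1, 4, 1), (1, 0, 1, 3), (4, 2, 5, 6), (2, 3, 6, 2)), 8, 133, 134),
  (((0, 3, 4, 1), (4, 0, 6, 4), (0, 6, 1, 4), (1, 0, 3, 1)), 6, 135, 136),
  (((2, 5, 5, 4), (5, 5, 4, 2), (0, 4, 0, 3), (4, 0, 3, 0)), 8, 30, 137),
  (((2, 1, 6, 5), (6, 2, 2, 6), (3, 5, 1, 1), (2, 3, 6, 1)), 5, 138, 139),
  (((6, 3, 2, 4), (4, 6, 3, 2), (3, 6, 4, 2), (1, 3, 5, 4)), 5, 140, 93),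
  (((4, 2, 4, 0), (2, 3, 0, 3), (3, 5, 6, 2), (5, 4, 2, 1)), 8, 58, 141),
  (((6, 1, 1, 5), (1, 1, 5, 6), (5, 4, 4, 3), (4, 2, 3, 3)), 8, 142, 49),
  (((1, 3, 6, 6), (4, 1, 1, 6), (3, 3, 6, 4), (4, 3, 3, 6)), 4, 143, 144),
  (((5, 5, 6, 0), (5, 2, 0, 1), (2, 3, 1, 4), (3, 5, 4, 6)), 8, 33, 145),
  (((0, 6, 3, 4), (1, 0, 3, 3), (0, 0, 0, 1), (0, 0, 6, 0)), 4, 146, 147),
  (((2, 0, 3, 4), (0, 2, 3, 3), (2, 3, 1, 5), (4, 2, 2, 1)), 5, 148, 149),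
  (((5, 2, 6, 5), (5, 5, 2, 6), (5, 1, 3, 5), (6, 5, 2, 3)), 6, 80, 150),
  (((3, 3, 6, 0), (3, 4, 0, 1), (0, 2, 1, 3), (2, 0, 3, 6)), 8, 35, 151),
  (((2, 1, 2, 2), (6, 2, 5, 2), (5, 0, 5, 6), (0, 5, 1, 5)), 4, 152, 153),
  (((2, 5, 3, 0), (2, 2, 0, 3), (5, 2, 6, 2), (5, 5, 5, 6)), 6, 154, 155),
  (((1, 4, 5, 1), (4, 6, 1, 2), (2, 5, 3, 1), (5, 5, 1, 4)), 12, 156, 12),
  (((4, 4, 0, 4), (3, 4, 3, 0), (4, 1, 6, 5), (6, 4, 2, 6)), 5, 141, 157),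
  (((2, 4, 0, 1), (3, 2, 6, 0), (0, 5, 1, 5), (2, 0, 2, 1)), 5, 158, 159),
  (((6, 2, 0, 0), (2, 1, 0, 0), (2, 5, 4, 1), (5, 5, 1, 3)), 12, 160, 39),
  (((3, 4, 5, 3), (3, 3, 4, 5), (4, 2, 0, 5), (5, 4, 2, 0)), 5, 161, 130),
  (((3, 0, 0, 0), (0, 3, 0, 0), (0, 1, 5, 0), (6, 0, 0, 5)), 6, 162, 163),
  (((4, 4, 4, 1), (3, 4, 6, 4), (2, 3, 6, 1), (4, 2, 6, 6)), 5, 164, 165),
  (((5, 6, 4, 1), (1, 5, 6, 4), (2, 2, 5, 3), (5, 2, 4, 5)), 5, 117, 166),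
  (((4, 5, 1, 5), (5, 3, 5, 6), (1, 4, 6, 0), (4, 6, 0, 1)), 8, 40, 140),
  (((4, 6, 0, 3), (1, 4, 4, 0), (5, 3, 3, 1), (4, 5, 6, 3)), 4, 167, 168),
  (((2, 3, 0, 0), (3, 5, 0, 0), (4, 0, 5, 3), (0, 3, 3, 2)), 4, 169, 114),
  (((2, 6, 5, 0), (1, 2, 0, 5), (1, 2, 6, 1), (5, 1, 6, 6)), 6, 89, 170),
  (((1, 3, 6, 5), (4, 1, 2, 6), (1, 4, 6, 4), (3, 1, 3, 6)), 4, 171, 172),
  (((3, 1, 6, 4), (1, 4, 4, 1), (5, 0, 5, 5), (0, 2, 5, 2)), 12, 155, 173),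
  (((3, 1, 5, 2), (6, 3, 5, 5), (6, 0, 0, 4), (0, 6, 3, 0)), 5, 42, 174),
  (((3, 0, 3, 6), (0, 4, 6, 4), (5, 0, 3, 3), (0, 2, 3, 4)), 12, 149, 158),
  (((2, 5, 6, 3), (5, 5, 3, 1), (5, 0, 4, 1), (0, 2, 1, 3)), 12, 157, 120),
  (((3, 0, 1, 6), (0, 3, 1, 1), (6, 0, 0, 5), (0, 6, 2, 0)), 5, 77, 85),
  (((2, 3, 1, 6), (4, 2, 1, 1), (1, 3, 5, 4), (4, 1, 3, 5)), 4, 175, 67),
  (((0, 3, 6, 0), (3, 0, 0, 1), (3, 0, 0, 3), (0, 4, 3, 0)), 4, 153, 143),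
  (((2, 4, 1, 1), (3, 2, 6, 1), (4, 5, 6, 3), (2, 4, 4, 6)), 6, 45, 176),
  (((0, 6, 1, 5), (6, 0, 5, 6), (3, 6, 0, 2), (6, 4, 2, 0)), 12, 177, 3),
  (((3, 0, 2, 1), (0, 4, 1, 5), (0, 4, 6, 5), (4, 0, 5, 1)), 12, 178, 132),
  (((0, 2, 1, 2), (2, 0, 2, 6), (3, 1, 0, 6), (1, 4, 6, 0)), 12, 170, 146),
  (((5, 4, 0, 2), (3, 5, 5, 0), (5, 5, 5, 5), (2, 5, 2, 5)), 5, 47, 133),
  (((4, 5, 4, 0), (5, 3, 0, 3), (0, 0, 3, 5), (0, 0, 5, 4)), 4, 179, 152),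
  (((3, 6, 2, 1), (6, 4, 1, 5), (5, 5, 1, 3), (5, 2, 3, 6)), 12, 180, 181),
  (((1, 6, 3, 5), (6, 6, 5, 4), (5, 2, 5, 1), (2, 2, 1, 2)), 12, 123, 182),
  (((1, 0, 1, 2), (0, 6, 2, 6), (1, 3, 3, 5), (3, 6, 5, 4)), 8, 183, 21),
  (((1, 1, 1, 2), (6, 1, 5, 1), (4, 2, 2, 1), (5, 4, 6, 2)), 5, 184, 169),
  (((5, 1, 3, 1), (1, 2, 1, 4), (3, 2, 0, 6), (2, 4, 6, 0)), 8, 50, 164),
  (((6, 5, 5, 3), (2, 6, 4, 5), (6, 5, 2, 2), (2, 6, 5, 2)), 6, 185, 186),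
  (((5, 6, 5, 5), (1, 5, 2, 5), (2, 0, 2, 1), (0, 2, 6, 2)), 4, 187, 188),
  (((1, 3, 1, 0), (3, 6, 0, 6), (5, 3, 5, 2), (3, 2, 2, 2)), 8, 51, 162),
  (((0, 6, 1, 2), (1, 0, 5, 1), (4, 3, 3, 6), (4, 4, 1, 3)), 5, 189, 190),
  (((6, 6, 0, 6), (1, 6, 1, 0), (2, 6, 1, 1), (1, 2, 6, 1)), 4, 182, 191),
  (((6, 0, 5, 0), (0, 1, 0, 2), (5, 4, 2, 1), (4, 2, 1, 5)), 8, 192, 18),
  (((4, 2, 5, 3), (5, 4, 4, 5), (4, 1, 6, 3), (6, 4, 4, 6)), 5, 105, 193),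
  (((6, 4, 1, 1), (3, 6, 6, 1), (4, 4, 1, 3), (3, 4, 4, 1)), 4, 194, 179),
  (((6, 6, 5, 0), (6, 1, 0, 2), (3, 5, 4, 6), (5, 4, 6, 3)), 8, 195, 54),
  (((6, 5, 0, 3), (2, 6, 4, 0), (3, 6, 4, 4), (1, 3, 3, 4)), 5, 111, 196),
  (((6, 1, 3, 6), (6, 6, 1, 3), (5, 4, 4, 4), (3, 5, 3, 4)), 5, 151, 197),
  (((6, 5, 4, 2), (5, 1, 2, 3), (5, 3, 5, 3), (3, 2, 3, 2)), 8, 55, 161),
  (((1, 5, 0, 6), (2, 1, 1, 0), (0, 2, 2, 4), (5, 0, 3, 2)), 5, 198, 178),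
  (((2, 2, 4, 0), (2, 5, 0, 3), (3, 0, 5, 2), (0, 4, 2, 2)), 4, 110, 148),
  (((0, 5, 6, 1), (2, 0, 6, 6), (1, 0, 3, 0), (0, 1, 0, 3)), 5, 104, 199),
  (((2, 3, 6, 0), (4, 2, 0, 6), (1, 2, 6, 4), (5, 1, 3, 6)), 6, 200, 180),
  (((1, 1, 5, 3), (1, 6, 3, 2), (5, 5, 1, 4), (5, 2, 4, 6)), 12, 191, 201),
  (((5, 4, 6, 1), (3, 5, 6, 6), (6, 4, 2, 3), (3, 6, 4, 2)), 4, 57, 202),
  (((0, 4, 1, 0), (4, 0, 0, 6), (4, 0, 0, 4), (0, 3, 4, 0)), 4, 188, 194),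
  (((4, 3, 5, 6), (3, 3, 6, 2), (4, 5, 5, 5), (5, 3, 5, 2)), 8, 193, 154),
  (((4, 2, 4, 4), (5, 4, 3, 4), (5, 2, 4, 5), (5, 5, 2, 4)), 6, 101, 44),
  (((1, 5, 4, 3), (2, 1, 4, 4), (5, 4, 2, 0), (3, 5, 0, 2)), 5, 203, 91),
  (((3, 4, 4, 6), (4, 4, 6, 3), (2, 0, 3, 0), (0, 5, 0, 4)), 12, 190, 184),
  (((4, 5, 3, 6), (2, 4, 1, 3), (5, 0, 3, 2), (0, 5, 5, 3)), 4, 60, 204),
  (((2, 1, 3, 2), (1, 5, 2, 4), (5, 5, 6, 6), (5, 2, 6, 1)), 12, 205, 0),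
  (((0, 6, 3, 6), (6, 0, 6, 4), (3, 5, 2, 1), (5, 4, 1, 5)), 8, 206, 71),
  (((6, 5, 3, 0), (5, 1, 0, 4), (4, 5, 4, 5), (5, 3, 5, 3)), 8, 199, 185),
  (((3, 1, 0, 4), (6, 3, 3, 0), (2, 4, 4, 6), (3, 2, 1, 4)), 4, 62, 73),
  (((5, 4, 0, 0), (4, 2, 0, 0), (3, 0, 2, 4), (0, 4, 4, 5)), 4, 125, 189),
  (((2, 2, 1, 0), (2, 5, 0, 6), (5, 4, 6, 3), (4, 2, 3, 1)), 8, 207, 208),
  (((4, 5, 3, 3), (2, 4, 4, 3), (2, 5, 4, 2), (2, 2, 5, 4)), 6, 145, 209),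
  (((0, 5, 2, 4), (2, 0, 3, 2), (3, 5, 3, 4), (2, 3, 3, 3)), 5, 137, 59),
  (((2, 0, 6, 3), (0, 5, 3, 1), (0, 3, 3, 2), (3, 0, 2, 4)), 8, 210, 211),
  (((5, 3, 3, 6), (4, 5, 1, 3), (5, 5, 5, 6), (2, 5, 1, 5)), 5, 65, 212),
  (((1, 2, 3, 5), (2, 6, 5, 4), (2, 4, 2, 4), (4, 5, 4, 5)), 8, 213, 214),
  (((0, 4, 2, 4), (4, 0, 4, 5), (0, 4, 2, 2), (4, 0, 2, 5)), 8, 215, 167),
  (((5, 5, 0, 5), (2, 5, 2, 0), (2, 2, 5, 4), (5, 2, 3, 5)), 5, 68, 56),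
  (((4, 6, 0, 0), (6, 3, 0, 0), (5, 5, 6, 5), (5, 2, 5, 1)), 12, 136, 216),
  (((3, 2, 3, 0), (2, 4, 0, 4), (0, 0, 4, 2), (0, 0, 2, 3)), 4, 144, 187),
  (((6, 6, 3, 0), (6, 1, 0, 4), (6, 4, 2, 0), (4, 1, 0, 5)), 8, 127, 217),
  (((5, 1, 2, 2), (6, 5, 5, 2), (5, 1, 3, 6), (6, 5, 1, 3)), 6, 70, 218),
  (((6, 2, 5, 1), (2, 1, 1, 2), (0, 4, 3, 0), (4, 0, 0, 4)), 12, 139, 203),
  (((4, 0, 0, 0), (0, 4, 0, 0), (0, 6, 2, 0), (1, 0, 0, 2)), 3, 219, 25),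
  (((6, 0, 6, 5), (0, 1, 5, 1), (6, 4, 4, 2), (4, 1, 2, 3)), 8, 196, 200),
  (((0, 4, 2, 5), (3, 0, 2, 2), (1, 0, 3, 1), (0, 1, 6, 3)), 5, 74, 215),
  (((0, 5, 2, 3), (5, 0, 3, 5), (4, 3, 5, 0), (3, 3, 0, 2)), 8, 166, 135),
  (((4, 3, 3, 2), (3, 3, 2, 4), (0, 6, 6, 0), (6, 0, 0, 1)), 12, 186, 220),
  (((4, 4, 1, 0), (4, 3, 0, 6), (0, 5, 6, 4), (5, 0, 4, 1)), 8, 76, 221),
  (((5, 5, 3, 0), (5, 2, 0, 4), (4, 0, 2, 5), (0, 3, 5, 5)), 4, 159, 118),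
  (((2, 2, 3, 6), (2, 5, 6, 4), (0, 5, 0, 4), (5, 0, 4, 0)), 8, 79, 222),
  (((5, 1, 2, 0), (6, 5, 0, 2), (6, 5, 1, 6), (2, 6, 1, 1)), 3, 223, 10),
  (((1, 5, 3, 0), (2, 1, 0, 3), (5, 2, 5, 2), (5, 5, 5, 5)), 3, 86, 224),
  (((4, 4, 2, 0), (4, 3, 0, 5), (1, 0, 3, 4), (0, 6, 4, 4)), 4, 82, 106),
  (((2, 3, 0, 5), (4, 2, 2, 0), (2, 2, 2, 2), (5, 2, 5, 2)), 10, 211, 206),
  (((4, 1, 2, 2), (6, 4, 5, 2), (5, 1, 2, 6), (6, 5, 1, 2)), 3, 225, 207),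
  (((3, 5, 3, 0), (5, 4, 0, 4), (4, 2, 1, 5), (2, 3, 5, 6)), 8, 121, 226),
  (((6, 2, 3, 4), (5, 6, 3, 3), (2, 3, 5, 0), (4, 2, 0, 5)), 10, 84, 227),
  (((4, 3, 3, 1), (3, 3, 1, 4), (5, 0, 4, 0), (0, 2, 0, 3)), 12, 115, 124),
  (((4, 6, 2, 5), (1, 4, 2, 2), (1, 0, 0, 3), (0, 1, 4, 0)), 10, 222, 128),
  (((4, 0, 4, 1), (0, 3, 1, 3), (2, 0, 4, 4), (0, 5, 4, 3)), 12, 119, 109),
  (((5, 0, 3, 0), (0, 2, 0, 4), (6, 3, 1, 6), (3, 1, 6, 6)), 8, 228, 1),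
  (((4, 1, 2, 0), (1, 3, 0, 5), (4, 5, 6, 1), (5, 3, 1, 1)), 8, 168, 95),
  (((1, 0, 3, 5), (0, 6, 5, 4), (0, 1, 3, 3), (1, 0, 3, 4)), 12, 212, 112),
  (((6, 2, 0, 1), (5, 6, 6, 0), (0, 5, 5, 3), (2, 0, 4, 5)), 10, 88, 97),
  (((2, 6, 4, 6), (6, 5, 6, 3), (4, 5, 0, 1), (5, 3, 1, 0)), 8, 172, 229),
  (((3, 3, 5, 0), (3, 4, 0, 2), (6, 0, 4, 3), (0, 1, 3, 3)), 4, 218, 230),
  (((5, 3, 6, 0), (3, 2, 0, 1), (0, 0, 2, 3), (0, 0, 3, 5)), 4, 231, 198),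
  (((5, 6, 1, 2), (1, 5, 5, 1), (4, 2, 6, 6), (5, 4, 1, 6)), 10, 92, 83),
  (((6, 4, 5, 4), (4, 1, 4, 2), (5, 2, 6, 1), (2, 2, 1, 1)), 12, 116, 232),
  (((5, 5, 5, 3), (2, 5, 4, 5), (6, 5, 1, 2), (2, 6, 5, 1)), 3, 94, 233),
  (((2, 1, 3, 6), (6, 2, 1, 3), (5, 5, 2, 4), (2, 5, 3, 2)), 10, 216, 36),
  (((0, 1, 2, 0), (1, 0, 0, 5), (6, 0, 0, 1), (0, 1, 1, 0)), 4, 209, 225),
  (((4, 1, 1, 2), (6, 4, 5, 1), (4, 3, 0, 1), (4, 4, 6, 0)), 10, 98, 231),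
  (((4, 2, 6, 4), (2, 3, 4, 1), (0, 4, 5, 0), (4, 0, 0, 2)), 8, 197, 75),
  (((2, 5, 5, 1), (5, 5, 1, 2), (4, 2, 3, 3), (2, 3, 3, 4)), 8, 113, 234),
  (((6, 4, 6, 0), (4, 1, 0, 1), (2, 4, 2, 5), (4, 5, 5, 5)), 8, 100, 219),
  (((6, 3, 6, 0), (3, 1, 0, 1), (0, 5, 4, 3), (5, 0, 3, 3)), 8, 103, 175),
  (((0, 2, 1, 6), (5, 0, 1, 1), (6, 0, 4, 0), (0, 6, 0, 4)), 10, 220, 16),
  (((3, 2, 6, 2), (2, 4, 2, 1), (6, 3, 1, 0), (3, 1, 0, 6)), 8, 233, 235),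
  (((2, 0, 2, 4), (0, 5, 4, 5), (4, 4, 0, 5), (4, 3, 5, 0)), 8, 224, 236),
  (((4, 3, 6, 0), (4, 4, 0, 6), (1, 3, 3, 4), (4, 1, 3, 3)), 4, 129, 41),
  (((2, 4, 6, 3), (4, 5, 3, 1), (3, 1, 6, 6), (1, 4, 6, 1)), 12, 150, 237),
  (((5, 6, 5, 0), (6, 2, 0, 2), (3, 0, 2, 6), (0, 4, 6, 5)), 4, 227, 138),
  (((3, 2, 4, 4), (5, 3, 3, 4), (5, 2, 3, 5), (5, 5, 2, 3)), 3, 208, 108),
  (((0, 5, 3, 0), (5, 0, 0, 4), (3, 0, 0, 5), (0, 4, 5, 0)), 4, 176, 238),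
  (((4, 0, 6, 1), (0, 4, 6, 6), (1, 0, 0, 2), (0, 1, 5, 0)), 10, 236, 156),
  (((4, 6, 5, 0), (1, 4, 0, 5), (1, 3, 3, 1), (4, 1, 6, 3)), 4, 237, 205),
  (((5, 4, 3, 2), (4, 2, 2, 4), (2, 3, 6, 2), (3, 5, 2, 1)), 8, 174, 78),
  (((0, 2, 5, 3), (5, 0, 4, 5), (4, 2, 4, 3), (5, 4, 4, 4)), 10, 239, 122),
  (((4, 3, 2, 4), (4, 4, 3, 2), (3, 5, 0, 2), (2, 3, 5, 0)), 10, 214, 195),
  (((3, 5, 3, 3), (2, 3, 4, 3), (2, 5, 3, 2), (2, 2, 5, 3)), 3, 238, 192),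
  (((3, 2, 4, 0), (5, 3, 0, 4), (2, 4, 4, 5), (3, 2, 2, 4)), 4, 134, 210),
  (((1, 4, 5, 3), (3, 1, 4, 5), (4, 1, 3, 5), (6, 4, 2, 3)), 10, 235, 160),
  (((3, 0, 6, 0), (0, 4, 0, 1), (3, 0, 4, 0), (0, 4, 0, 3)), 4, 163, 99),
  (((4, 1, 0, 2), (6, 4, 5, 0), (3, 1, 3, 6), (6, 3, 1, 3)), 4, 131, 213),
  (((1, 6, 4, 1), (1, 1, 6, 4), (2, 3, 3, 3), (4, 2, 4, 3)), 10, 221, 52),
  (((1, 6, 6, 2), (6, 6, 2, 1), (2, 3, 3, 4), (3, 5, 4, 4)), 8, 165, 171),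
  (((1, 6, 6, 4), (6, 6, 4, 1), (3, 6, 5, 4), (6, 4, 4, 2)), 12, 147, 223),
  (((2, 4, 4, 1), (3, 2, 6, 4), (2, 2, 2, 1), (5, 2, 6, 2)), 10, 234, 27),
  (((3, 3, 3, 6), (4, 3, 1, 3), (5, 4, 1, 6), (3, 5, 1, 1)), 10, 229, 142),
  (((5, 2, 2, 3), (2, 2, 3, 5), (0, 3, 0, 4), (3, 0, 4, 0)), 8, 204, 239),
  (((1, 2, 4, 4), (5, 1, 3, 4), (5, 1, 6, 5), (6, 5, 2, 6)), 4, 217, 228),
  (((4, 4, 6, 5), (4, 3, 5, 1), (2, 4, 6, 6), (4, 5, 6, 1)), 8, 202, 102),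
  (((2, 0, 0, 0), (0, 2, 0, 0), (0, 1, 4, 0), (6, 0, 0, 4)), 3, 230, 126),
  (((1, 2, 0, 4), (5, 1, 3, 0), (4, 1, 3, 3), (6, 4, 4, 3)), 10, 181, 183),
  (((1, 6, 5, 0), (1, 1, 0, 5), (1, 2, 5, 1), (5, 1, 6, 5)), 3, 201, 5),
  (((2, 6, 5, 3), (1, 2, 4, 5), (1, 3, 5, 1), (4, 1, 6, 5)), 4, 232, 177),
  (((3, 3, 0, 3), (4, 3, 4, 0), (3, 6, 1, 2), (1, 3, 5, 1)), 10, 226, 8),
  (((3, 5, 2, 4), (2, 3, 3, 2), (3, 6, 1, 4), (1, 3, 3, 1)), 10, 173, 14)]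


/-- entry of the table -/
def el (i : ℕ) : M4 × ℕ × ℕ × ℕ := tbl.getD i (one, 1, 0, 0)

/-- power -/
noncomputable def pw (A : M4) (n : ℕ) : M4 := Nat.rec one (fun _ ih => mul ih A) n

/-- norm -/
noncomputable def nr (A : M4) (n : ℕ) : M4 := Nat.rec zero (fun j ih => add ih (pw A j)) n

theorem toM_pw (A : M4) : ∀ n, toM (pw A n) = toM A ^ n
  | 0 => by simp [pw, toM_one]
  | n + 1 => by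
    show toM (mul (pw A n) A) = _
    rw [toM_mul, toM_pw A n, pow_succ]

theorem toM_nr (A : M4) : ∀ n, toM (nr A n) = ∑ j ∈ Finset.range n, toM A ^ j
  | 0 => by simp [nr, toM_zero]
  | n + 1 => by
    show toM (add (nr A n) (pw A n)) = _
    rw [toM_add, toM_nr A n, toM_pw, Finset.sum_range_succ]

/-- check of one row -/
noncomputable def checkRow (i : ℕ) : Bool :=
  match el i with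
  | (A, n, ia, ib) =>
    Nat.blt ia 240 && Nat.blt ib 240 && decide (mul gA A = (el ia).1) && decide (mul gB A = (el ib).1)
      && decide (n ∈ [1, 2, 3, 4, 5, 6, 8, 10, 12]) && decide (pw A n = one)
      && ((List.range (n - 1)).all fun j => decide (pw A (j + 1) ≠ one))
      && (decide (A = one) || decide (nr A n = zero))
      && (decide (n % 2 = 1) || decide (pw A (n / 2) = negOne))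

theorem checkRow_all : (List.range 240).all checkRow = true := by decide +kernel

/-- what a checked row gives -/
theorem row_spec {i : ℕ} (hi : i < 240) :
    ∃ n ∈ [1, 2, 3, 4, 5, 6, 8, 10, 12],
      (∃ ia < 240, toM gA * toM (el i).1 = toM (el ia).1) ∧
      (∃ ib < 240, toM gB * toM (el i).1 = toM (el ib).1) ∧
      toM (el i).1 ^ n = 1 ∧
      (∀ m, 0 < m → m < n → toM (el i).1 ^ m ≠ 1) ∧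
      (toM (el i).1 = 1 ∨ ∑ j ∈ Finset.range n, toM (el i).1 ^ j = 0) ∧
      (n % 2 = 1 ∨ toM (el i).1 ^ (n / 2) = -1) := by
  have h := List.all_eq_true.1 checkRow_all i (List.mem_range.2 hi)
  unfold checkRow at h
  generalize el i = e at h ⊢
  obtain ⟨A, n, ia, ib⟩ := e
  simp only [Bool.and_eq_true, Bool.or_eq_true, decide_eq_true_eq, List.all_eq_true, List.mem_range,
    Nat.blt_eq] at h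
  obtain ⟨⟨⟨⟨⟨⟨⟨⟨h1, h2⟩, h3⟩, h4⟩, h5⟩, h6⟩, h7⟩, h8⟩, h9⟩ := h
  refine ⟨n, h5, ⟨ia, h1, by rw [← toM_mul, h3]⟩, ⟨ib, h2, by rw [← toM_mul, h4]⟩,
    by rw [← toM_pw, h6, toM_one], fun m hm hmn => ?_, ?_, ?_⟩
  · rw [← toM_pw, ← toM_one]
    intro hc
    obtain ⟨k, rfl⟩ : ∃ k, m = k + 1 := ⟨m - 1, by omega⟩
    have e : frM (toM (mul (pw A k) A)) = frM (toM one) := congrArg frM hc
    rw [frM_toM_mul, frM_toM_one] at e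
    exact h7 k (by omega) e
  · rcases h8 with h8 | h8
    · exact Or.inl (by rw [h8, toM_one])
    · exact Or.inr (by rw [← toM_nr, h8, toM_zero])
  · rcases h9 with h9 | h9
    · exact Or.inl h9
    · exact Or.inr (by rw [← toM_pw, h9, toM_negOne])

end CfsgLib.TwoS5
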